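import Mathlib.Algebra.Homology.DerivedCategory.KInjective
import Mathlib.Algebra.Homology.DerivedCategory.SingleTriangle
import Mathlib.Algebra.Homology.HomotopyCategory.HomComplexCohomology
import Mathlib.Algebra.Homology.HomotopyCategory.HomComplexSingle
import Mathlib.Algebra.Homology.ShortComplex.Ab
import Mathlib.Algebra.Category.Grp.Abelian
import Mathlib.CategoryTheory.Preadditive.Yoneda.Basic

/-!
# Morphisms from an object placed in degree zero to a shifted K-injective complex
-/

set_option autoImplicit false
set_option backward.isDefEq.respectTransparency false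
set_option linter.style.haveILetI false

universe w v u

open CategoryTheory CategoryTheory.Limits Opposite DerivedCategory

noncomputable section

namespace Groth.Agent.HdRLib

variable {A : Type u} [Category.{v} A] [Abelian A] [HasDerivedCategory.{w} A]

open CochainComplex.HomComplex

/-- The complex of morphisms out of an object. -/
abbrev homCx (M : A) (I : CochainComplex A ℤ) : CochainComplex AddCommGrpCat.{v} ℤ :=
  ((preadditiveCoyoneda.obj (op M)).mapHomologicalComplex (ComplexShape.up ℤ)).obj I

/-- Cohomology classes to a K-injective complex are morphisms in the derived category. -/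
def classEquivD (K I : CochainComplex A ℤ) [I.IsKInjective] (n : ℤ) :
    CohomologyClass K I n ≃+ (Q.obj K ⟶ (Q.obj I)⟦n⟧) :=
  let e := quotientCompQhIso A
  (CohomologyClass.homAddEquiv.trans
    (AddEquiv.ofBijective (Qh.mapAddHom
      (X := (HomotopyCategory.quotient A (ComplexShape.up ℤ)).obj K)
      (Y := (HomotopyCategory.quotient A (ComplexShape.up ℤ)).obj (I⟦n⟧)))
      (CochainComplex.IsKInjective.Qh_map_bijective _ _))).trans
    { (e.app K).homCongr (e.app (I⟦n⟧) ≪≫ (Q.commShiftIso n).app I) with
      map_add' := fun x y => by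
        simp [Iso.homCongr, Preadditive.comp_add, Preadditive.add_comp] }

/-- Classes of maps out of an object placed in degree zero. -/
def singleClass (M : A) (I : CochainComplex A ℤ) (n : ℤ) :
    ((homCx M I).sc' (n - 1) n (n + 1)).g.hom.ker →+
      CohomologyClass ((CochainComplex.singleFunctor A 0).obj M) I n :=
  AddMonoidHom.mk'
    (fun f => CohomologyClass.mk
      (Cocycle.fromSingleMk (f.1 : M ⟶ I.X n) (zero_add n) (n + 1) rfl f.2))
    (fun f g => by
      rw [← CohomologyClass.mk_add]
      exact congrArg CohomologyClass.mk (Cocycle.fromSingleMk_add (f.1 : M ⟶ I.X n) (g.1 : M ⟶ I.X n) (zero_add n) (n + 1) rfl f.2 g.2))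

theorem singleClass_surjective (M : A) (I : CochainComplex A ℤ) (n : ℤ) :
    Function.Surjective (singleClass M I n) := fun c => by
  obtain ⟨z, rfl⟩ := CohomologyClass.mk_surjective c
  obtain ⟨f, hf, rfl⟩ := Cocycle.fromSingleMk_surjective z n (zero_add n) (n + 1) rfl
  exact ⟨⟨f, hf⟩, rfl⟩

theorem ker_singleClass (M : A) (I : CochainComplex A ℤ) (n : ℤ) :
    (singleClass M I n).ker =
      ((homCx M I).sc' (n - 1) n (n + 1)).abToCycles.range := by
  ext f
  refine Iff.trans (CohomologyClass.mk_eq_zero_iff _) ((Cocycle.fromSingleMk_mem_coboundaries_iff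
    (f.1 : M ⟶ I.X n) (zero_add n) (n + 1) rfl f.2 (n - 1) (by lia)).trans ?_)
  exact ⟨fun ⟨g, hg⟩ => ⟨g, Subtype.ext hg⟩, fun ⟨g, hg⟩ => ⟨g, congrArg Subtype.val hg⟩⟩

/-- Morphisms from an object in degree zero to a shifted K-injective complex are the cohomology of
the complex of morphisms. -/
theorem nonempty_hom_equiv (M : A) (I : CochainComplex A ℤ) [I.IsKInjective] (n : ℤ) :
    Nonempty (((DerivedCategory.singleFunctor A 0).obj M ⟶ (Q.obj I)⟦n⟧) ≃+
      (homCx M I).homology n) := by
  let S := (homCx M I).sc' (n - 1) n (n + 1)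
  let q : (S.g.hom.ker ⧸ S.abToCycles.range) ≃+
      CohomologyClass ((CochainComplex.singleFunctor A 0).obj M) I n :=
    (QuotientAddGroup.quotientAddEquivOfEq (ker_singleClass M I n).symm).trans
      (QuotientAddGroup.quotientKerEquivOfSurjective _ (singleClass_surjective M I n))
  let h : (homCx M I).homology n ≅ S.homology :=
    ShortComplex.homologyMapIso ((homCx M I).isoSc' (n - 1) n (n + 1) (by simp) (by simp))
  let s := (singleFunctorIsoCompQ A 0).app M
  exact ⟨((((h ≪≫ S.abHomologyIso).addCommGroupIsoToAddEquiv.trans q).trans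
    (classEquivD _ I n)).trans
      { s.symm.homCongr (Iso.refl _) with
        map_add' := fun x y => by simp [Iso.homCongr, Preadditive.comp_add, Preadditive.add_comp] }).symm⟩

end Groth.Agent.HdRLib
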