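import Groth.Prelude.Def_CohCx
import Groth.Agent.HdRLib.Single
import Groth.Agent.SpSeqLib.SiteDerived
import Groth.Agent.RlimCrit.Instances
import Mathlib.Algebra.Homology.Factorizations.CM5a
import Mathlib.Algebra.Homology.Embedding.Extend

/-!
# Hypercohomology of a complex with acyclic terms is the cohomology of its complex of sections
-/

set_option autoImplicit false
set_option backward.isDefEq.respectTransparency false
set_option backward.isDefEq.respectTransparency.types false
set_option linter.style.haveILetI false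

universe w u

open CategoryTheory CategoryTheory.Limits Opposite DerivedCategory

noncomputable section

namespace Groth.Agent.HdRLib

variable {C : Type u} [SmallCategory C] {J : GrothendieckTopology C}

attribute [local instance] SpSeqLib.additive_secAt

theorem abSec_add_here (U : C) {M : Sheaf J AddCommGrpCat.{u}} (x y : (RlimCrit.abP J).obj U ⟶ M) :
    RlimCrit.abSec U M (x + y) = RlimCrit.abSec U M x + RlimCrit.abSec U M y := by
  have hs : biprod.lift x y ≫ (biprod.fst + biprod.snd) = x + y := by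
    rw [Preadditive.comp_add, biprod.lift_fst, biprod.lift_snd]
  have h1 := RlimCrit.abSec_comp U (biprod.lift x y) (biprod.fst : M ⊞ M ⟶ M)
  have h2 := RlimCrit.abSec_comp U (biprod.lift x y) (biprod.snd : M ⊞ M ⟶ M)
  rw [biprod.lift_fst] at h1
  rw [biprod.lift_snd] at h2
  rw [← hs, RlimCrit.abSec_comp, h1, h2]
  rfl

/-- Morphisms out of the free sheaf on `U` are the sections at `U`. -/
def freeSecIso (U : C) :
    preadditiveCoyoneda.obj (op (CohCx.freeSheaf J U)) ≅ SiteBase.evA J (op U) :=
  NatIso.ofComponents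
    (fun M => AddEquiv.toAddCommGrpIso (AddEquiv.mk' (RlimCrit.abSec U M) (abSec_add_here U)))
    (fun e => AddCommGrpCat.ext fun x => RlimCrit.abSec_comp U x e)

variable [HasDerivedCategory.{w} (Sheaf J AddCommGrpCat.{u})]

/-- Leray: a bounded below complex with acyclic terms computes hypercohomology by sections. -/
theorem nonempty_HDU_sections (U : C) (K : CochainComplex (Sheaf J AddCommGrpCat.{u}) ℤ) (n₀ : ℤ)
    [K.IsStrictlyGE n₀]
    (hK : ∀ (m : ℤ) (p : ℕ), Subsingleton (CohSite.HU (K.X m) (p + 1) U)) (n : ℤ) :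
    Nonempty (CohCx.HDU (Q.obj K) n U ≃+ ((CohCx.sectCx J U).obj K).homology n) := by
  obtain ⟨I, φ, hφ, hI, hIge⟩ := CochainComplex.Plus.modelCategoryQuillen.exists_quasiIso_injective K n₀
  haveI := hI
  haveI := hIge
  haveI := CochainComplex.isKInjective_of_injective I n₀
  obtain ⟨e₁⟩ := nonempty_hom_equiv (CohCx.freeSheaf J U) I n
  haveI : IsIso (Q.map φ) := inferInstance
  let a : (Q.obj K)⟦n⟧ ≅ (Q.obj I)⟦n⟧ := (shiftFunctor _ n).mapIso (asIso (Q.map φ))
  let e₀ : CohCx.HDU (Q.obj K) n U ≃+
      ((DerivedCategory.singleFunctor _ 0).obj (CohCx.freeSheaf J U) ⟶ (Q.obj I)⟦n⟧) :=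
    { a.homToEquiv with map_add' := fun x y => Preadditive.add_comp _ _ _ x y a.hom }
  have hq : QuasiIso ((CohCx.sectCx J U).map φ) := by
    refine SpSeqLib.quasiIso_map (SiteBase.evA J (op U)) φ n₀ (fun m p => ?_)
      (fun m => SpSeqLib.isAcyclicFor_of_injective _ _)
    obtain ⟨i⟩ := SpSeqLib.nonempty_rightDerived_evA_iso (K.X m) U (p + 1)
    haveI := hK m p
    exact (AddCommGrpCat.isZero_of_subsingleton _).of_iso i
  haveI := hq
  let i₂ : (homCx (CohCx.freeSheaf J U) I).homology n ≅ ((CohCx.sectCx J U).obj K).homology n :=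
    (HomologicalComplex.homologyFunctor _ _ n).mapIso
      ((NatIso.mapHomologicalComplex (freeSecIso U) (ComplexShape.up ℤ)).app I) ≪≫
      (asIso (HomologicalComplex.homologyMap ((CohCx.sectCx J U).map φ) n)).symm
  exact ⟨(e₀.trans e₁).trans i₂.addCommGroupIsoToAddEquiv⟩

theorem subsingleton_HU_extend (U : C) (K : CochainComplex (Sheaf J AddCommGrpCat.{u}) ℕ)
    (hK : ∀ (m p : ℕ), Subsingleton (CohSite.HU (K.X m) (p + 1) U)) (m : ℤ) (p : ℕ) :
    Subsingleton (CohSite.HU ((K.extend ComplexShape.embeddingUpNat).X m) (p + 1) U) := by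
  by_cases hm : ∃ j : ℕ, ComplexShape.embeddingUpNat.f j = m
  · obtain ⟨j, hj⟩ := hm
    haveI := hK j p
    exact subsingleton_of_forall_eq 0 fun z => by
      rw [← Abelian.Ext.comp_mk₀_id z, ← Iso.hom_inv_id (K.extendXIso ComplexShape.embeddingUpNat hj),
        ← Abelian.Ext.mk₀_comp_mk₀, ← Abelian.Ext.comp_assoc z _ _ (add_zero _) (add_zero _) (by simp),
        Subsingleton.elim (α := CohSite.HU (K.X j) (p + 1) U)
          (z.comp (Abelian.Ext.mk₀ (K.extendXIso ComplexShape.embeddingUpNat hj).hom) (add_zero _)) 0,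
        Abelian.Ext.zero_comp]
  · have hz := K.isZero_extend_X ComplexShape.embeddingUpNat m (fun j hj => hm ⟨j, hj⟩)
    exact subsingleton_of_forall_eq 0 fun z => by
      rw [← Abelian.Ext.comp_mk₀_id z, hz.eq_of_src (𝟙 _) 0, Abelian.Ext.mk₀_zero, Abelian.Ext.comp_zero]

/-- The version for complexes in nonnegative degrees, extended by zero. -/
theorem nonempty_HDU_sections_nat (U : C) (K : CochainComplex (Sheaf J AddCommGrpCat.{u}) ℕ)
    (hK : ∀ (m p : ℕ), Subsingleton (CohSite.HU (K.X m) (p + 1) U)) (n : ℕ) :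
    Nonempty (CohCx.HDU (Q.obj (K.extend ComplexShape.embeddingUpNat)) (n : ℤ) U ≃+
      (((SiteBase.evA J (op U)).mapHomologicalComplex (ComplexShape.up ℕ)).obj K).homology n) := by
  obtain ⟨e⟩ := nonempty_HDU_sections U (K.extend ComplexShape.embeddingUpNat) 0 (subsingleton_HU_extend U K hK) (n : ℤ)
  exact ⟨e.trans (((HomologicalComplex.homologyFunctor _ _ (n : ℤ)).mapIso
      (SpSeqLib.mapExtendIso (SiteBase.evA J (op U)) K ComplexShape.embeddingUpNat)) ≪≫
      HomologicalComplex.extendHomologyIso _ ComplexShape.embeddingUpNat (rfl : (n : ℤ) = _)).addCommGroupIsoToAddEquiv⟩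

/-- Negative hypercohomology of a complex in nonnegative degrees vanishes. -/
theorem subsingleton_HDU_sections_neg (U : C) (K : CochainComplex (Sheaf J AddCommGrpCat.{u}) ℕ)
    (hK : ∀ (m p : ℕ), Subsingleton (CohSite.HU (K.X m) (p + 1) U)) (n : ℤ) (hn : n < 0) :
    Subsingleton (CohCx.HDU (Q.obj (K.extend ComplexShape.embeddingUpNat)) n U) := by
  obtain ⟨e⟩ := nonempty_HDU_sections U (K.extend ComplexShape.embeddingUpNat) 0 (subsingleton_HU_extend U K hK) n
  have hX : IsZero ((K.extend ComplexShape.embeddingUpNat).X n) :=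
    K.isZero_extend_X ComplexShape.embeddingUpNat n (fun j hj => by simp at hj; omega)
  have hz : IsZero (((CohCx.sectCx J U).obj (K.extend ComplexShape.embeddingUpNat)).homology n) :=
    HomologicalComplex.ExactAt.isZero_homology
      (ShortComplex.exact_of_isZero_X₂ _ ((SiteBase.evA J (op U)).map_isZero hX))
  haveI := AddCommGrpCat.subsingleton_of_isZero hz
  exact e.toEquiv.subsingleton

end Groth.Agent.HdRLib
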