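import Groth.Prelude.Def_DeRham2
import Groth.Prelude.Def_DeRham
import Groth.Agent.HdRLib.Sections
import Groth.Agent.OmegaAffLib.Spec
import Groth.Agent.DeRhamLib.Gen
import Groth.Agent.ExtPowLib.Unique
import Groth.Agent.CohBase.Affine

/-!
# De Rham cohomology of an affine scheme through the complex of differential forms
-/

set_option autoImplicit false
set_option backward.isDefEq.respectTransparency false
set_option backward.isDefEq.respectTransparency.types false
set_option linter.style.haveILetI false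

universe w u

open CategoryTheory CategoryTheory.Limits AlgebraicGeometry Opposite TopologicalSpace exteriorPower

noncomputable section

namespace Groth.Agent.HdRLib

/-- The complex of sections of a de Rham complex over an open. -/
abbrev secCx {X S : Scheme.{u}} {f : X ⟶ S} [QuasiSeparated f] (D : DeRhamSh.OmegaCx f) (U : X.Opens) :
    CochainComplex AddCommGrpCat.{u} ℕ :=
  ((SiteBase.evA (Opens.grothendieckTopology X) (op U)).mapHomologicalComplex (ComplexShape.up ℕ)).obj D.K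

/-- The terms of a de Rham complex have no higher cohomology on affine opens. -/
theorem subsingleton_HU_term {X S : Scheme.{u}} {f : X ⟶ S} [QuasiSeparated f] (D : DeRhamSh.OmegaCx f)
    {U : X.Opens} (hU : IsAffineOpen U) (m p : ℕ) :
    Subsingleton (CohSite.HU (D.K.X m) (p + 1) U) := by
  haveI := OmegaAffLib.isQCoh_omega f
  haveI : Coh.IsQCoh (D.term m) := ExtPowLib.isQCoh_of_isExtPow (D.isExtPow m)
  haveI : Subsingleton (CohSite.HU (Coh.toAb (D.term m)) (p + 1) U) :=
    CohBase.affine_vanishing (D.term m) hU p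
  exact subsingleton_of_forall_eq 0 fun z => by
    rw [← Abelian.Ext.comp_mk₀_id z, ← Iso.hom_inv_id (D.iso m), ← Abelian.Ext.mk₀_comp_mk₀,
      ← Abelian.Ext.comp_assoc z _ _ (add_zero _) (add_zero _) (by simp),
      Subsingleton.elim (α := CohSite.HU (Coh.toAb (D.term m)) (p + 1) U)
        (z.comp (Abelian.Ext.mk₀ (D.iso m).hom) (add_zero _)) 0,
      Abelian.Ext.zero_comp]

/-- On an affine open de Rham hypercohomology is the cohomology of the complex of sections. -/
theorem nonempty_HdRU_sections {X S : Scheme.{u}} {f : X ⟶ S} [QuasiSeparated f] (D : DeRhamSh.OmegaCx f)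
    [HasDerivedCategory.{w} (Sheaf (Opens.grothendieckTopology X) AddCommGrpCat.{u})]
    {U : X.Opens} (hU : IsAffineOpen U) (n : ℕ) :
    Nonempty (DeRhamSh.HdRU D (n : ℤ) U ≃+ (secCx D U).homology n) :=
  nonempty_HDU_sections_nat U D.K (subsingleton_HU_term D hU) n

theorem res_res {P P' M M' : Type u} [CommRing P] [AddCommGroup M] [Module P M] [CommRing P']
    [AddCommGroup M'] [Module P' M'] {φ : P →+* P'} {g : M →+ M'} {φ' : P' →+* P} {g' : M' →+ M} {p : ℕ}
    (hg : ∀ r m, g (r • m) = φ r • g m) (hg' : ∀ r m, g' (r • m) = φ' r • g' m)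
    (hφ : ∀ r, φ' (φ r) = r) (hgg : ∀ m, g' (g m) = m) (x : ↥(⋀[P]^p M)) :
    ExtPowLib.res p φ' g' hg' (ExtPowLib.res p φ g hg x) = x := by
  induction x using ExtPowLib.induction_ιMulti with
  | h0 => rw [map_zero, map_zero]
  | hadd a b ha hb => rw [map_add, map_add, ha, hb]
  | hsmul r v =>
    rw [ExtPowLib.res_smul, ExtPowLib.res_ιMulti, ExtPowLib.res_smul, ExtPowLib.res_ιMulti, hφ]
    exact congrArg (fun z : Fin p → M => r • ιMulti P p z) (funext fun i => hgg (v i))

section Spec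

variable (R A : Type u) [CommRing R] [CommRing A] [Algebra R A]
  (D : DeRhamSh.OmegaCx (Spec.map (CommRingCat.ofHom (algebraMap R A))))

local notation "f₀" => Spec.map (CommRingCat.ofHom (algebraMap R A))

/-- Global sections of differentials as Kähler differentials. -/
def omEquiv : Ω[A⁄R] ≃+ Γ(Omega.sheaf f₀, ⊤) :=
  AddEquiv.ofBijective (OmAff.toSpec R A).toAddMonoidHom (OmegaAffLib.bijective_toSpec R A)

theorem omEquiv_smul (a : A) (x : Ω[A⁄R]) :
    (omEquiv R A).toAddMonoidHom (a • x) = OmAff.toΓ A a • (omEquiv R A).toAddMonoidHom x :=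
  (OmAff.toSpec R A).map_smulₛₗ a x

theorem omEquiv_symm_smul (b : Γ(Spec (CommRingCat.of A), ⊤)) (y : Γ(Omega.sheaf f₀, ⊤)) :
    (omEquiv R A).symm.toAddMonoidHom (b • y) =
      (Scheme.ΓSpecIso (CommRingCat.of A)).hom.hom b • (omEquiv R A).symm.toAddMonoidHom y := by
  apply (omEquiv R A).injective
  show (omEquiv R A) ((omEquiv R A).symm (b • y)) = (omEquiv R A).toAddMonoidHom (_ • (omEquiv R A).symm y)
  rw [omEquiv_smul, AddEquiv.apply_symm_apply]
  show b • y = OmAff.toΓ A ((Scheme.ΓSpecIso (CommRingCat.of A)).hom b) • (omEquiv R A) ((omEquiv R A).symm y)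
  rw [AddEquiv.apply_symm_apply, show OmAff.toΓ A ((Scheme.ΓSpecIso (CommRingCat.of A)).hom b) = b from
    congr($((Scheme.ΓSpecIso (CommRingCat.of A)).hom_inv_id) b)]

/-- Exterior powers of the global sections of differentials. -/
def extEquiv (p : ℕ) :
    ↥(⋀[A]^p (Ω[A⁄R])) ≃+ ↥(⋀[Γ(Spec (CommRingCat.of A), ⊤)]^p Γ(Omega.sheaf f₀, ⊤)) where
  toFun := ExtPowLib.res p (OmAff.toΓ A) (omEquiv R A).toAddMonoidHom (omEquiv_smul R A)
  invFun := ExtPowLib.res p (Scheme.ΓSpecIso (CommRingCat.of A)).hom.hom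
    (omEquiv R A).symm.toAddMonoidHom (omEquiv_symm_smul R A)
  left_inv x := res_res (φ := OmAff.toΓ A) (g := (omEquiv R A).toAddMonoidHom)
    (φ' := (Scheme.ΓSpecIso (CommRingCat.of A)).hom.hom) (g' := (omEquiv R A).symm.toAddMonoidHom) _ _ (fun r => congr($((Scheme.ΓSpecIso (CommRingCat.of A)).inv_hom_id) r))
    (fun m => (omEquiv R A).symm_apply_apply m) x
  right_inv x := res_res (φ' := OmAff.toΓ A) (g' := (omEquiv R A).toAddMonoidHom)
    (φ := (Scheme.ΓSpecIso (CommRingCat.of A)).hom.hom) (g := (omEquiv R A).symm.toAddMonoidHom) _ _ (fun r => congr($((Scheme.ΓSpecIso (CommRingCat.of A)).hom_inv_id) r))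
    (fun m => (omEquiv R A).apply_symm_apply m) x
  map_add' := map_add _

/-- Forms of the ring are the global sections of the terms. -/
def formEquiv (p : ℕ) : ↥(⋀[A]^p (Ω[A⁄R])) ≃+ (secCx D ⊤).X p :=
  ((extEquiv R A p).trans (D.loc p ⟨⊤, isAffineOpen_top _⟩).symm.toAddEquiv).trans
    ((SiteBase.evA (Opens.grothendieckTopology _) (op ⊤)).mapIso (D.iso p).symm).addCommGroupIsoToAddEquiv

theorem formEquiv_gen (p : ℕ) (b₀ : A) (b : Fin p → A) :
    formEquiv R A D p (DeRham.gen (KaehlerDifferential.D R A) p b₀ b) =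
      (D.iso p).inv.hom.app (op ⊤) ((D.loc p ⟨⊤, isAffineOpen_top _⟩).symm
        (OmAff.toΓ A b₀ • ιMulti _ p fun i => (OmegaSh.dOmega f₀).app ⊤ (OmAff.toΓ A (b i)))) := by
  show (D.iso p).inv.hom.app (op ⊤) ((D.loc p ⟨⊤, isAffineOpen_top _⟩).symm
    (ExtPowLib.res p (OmAff.toΓ A) (omEquiv R A).toAddMonoidHom (omEquiv_smul R A) _)) = _
  rw [DeRham.gen, ExtPowLib.res_smul, ExtPowLib.res_ιMulti]
  refine congrArg (fun z : Fin p → Γ(Omega.sheaf f₀, ⊤) => (D.iso p).inv.hom.app (op ⊤)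
    ((D.loc p ⟨⊤, isAffineOpen_top _⟩).symm (OmAff.toΓ A b₀ • ιMulti _ p z))) (funext fun i => ?_)
  exact OmAff.toSpec_D R A (b i)

theorem formEquiv_d (d : ∀ p : ℕ, ↥(⋀[A]^p (Ω[A⁄R])) →ₗ[R] ↥(⋀[A]^(p + 1) (Ω[A⁄R])))
    (hd : DeRham.IsRule (KaehlerDifferential.D R A) d) (p : ℕ) (x : ↥(⋀[A]^p (Ω[A⁄R]))) :
    (secCx D ⊤).d p (p + 1) (formEquiv R A D p x) = formEquiv R A D (p + 1) (d p x) := by
  induction x using DeRhamLib.gen_induction with
  | h0 => rw [map_zero, map_zero, map_zero, map_zero]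
  | hadd x y hx hy => rw [map_add, map_add, map_add, map_add, hx, hy]
  | hgen b₀ b =>
    rw [formEquiv_gen, hd p b₀ b]
    refine (D.rule p ⟨⊤, isAffineOpen_top _⟩ (OmAff.toΓ A b₀) fun i => OmAff.toΓ A (b i)).trans ?_
    have e : ιMulti A (p + 1) (Fin.cons (KaehlerDifferential.D R A b₀) fun i => KaehlerDifferential.D R A (b i)) =
        DeRham.gen (KaehlerDifferential.D R A) (p + 1) 1 (Fin.cons b₀ b) := by
      rw [DeRham.gen, one_smul]
      congr 1
      funext i
      refine Fin.cases ?_ (fun j => ?_) i <;> simp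
    rw [e, formEquiv_gen, map_one, one_smul]
    congr
    funext i
    refine Fin.cases ?_ (fun j => ?_) i <;> simp

variable {d : ∀ p : ℕ, ↥(⋀[A]^p (Ω[A⁄R])) →ₗ[R] ↥(⋀[A]^(p + 1) (Ω[A⁄R]))}

/-- The ring-level complex is the complex of global sections. -/
def cxIso (hd : DeRham.IsDiff (KaehlerDifferential.D R A) d) :
    ((forget₂ (ModuleCat.{u} R) AddCommGrpCat.{u}).mapHomologicalComplex (ComplexShape.up ℕ)).obj
      (DeRham.cx hd) ≅ secCx D ⊤ :=
  HomologicalComplex.Hom.isoOfComponents (fun p => (formEquiv R A D p).toAddCommGrpIso) (fun i j hij => by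
    obtain rfl : i + 1 = j := hij
    refine AddCommGrpCat.ext fun x => ?_
    show (secCx D ⊤).d i (i + 1) (formEquiv R A D i x) = formEquiv R A D (i + 1) ((DeRham.cx hd).d i (i + 1) x)
    rw [show (DeRham.cx hd).d i (i + 1) = ModuleCat.ofHom (d i) from CochainComplex.of_d (fun p => ModuleCat.of R ↥(⋀[A]^p (Ω[A⁄R]))) (fun p => ModuleCat.ofHom (d p)) i]
    exact formEquiv_d R A D d hd.1 i x)

/-- Hypercohomology is the cohomology of the ring-level complex. -/
theorem nonempty_HdR_equiv (hd : DeRham.IsDiff (KaehlerDifferential.D R A) d) (n : ℕ)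
    [HasDerivedCategory.{w} (Sheaf (Opens.grothendieckTopology ↥(Spec (CommRingCat.of A))) AddCommGrpCat.{u})] :
    Nonempty (DeRhamSh.HdR D (n : ℤ) ≃+ ↑(DeRham.H hd n)) := by
  obtain ⟨e⟩ := nonempty_HdRU_sections D (isAffineOpen_top (Spec (CommRingCat.of A))) n
  exact ⟨e.trans (((HomologicalComplex.homologyMapIso (cxIso R A D hd) n).symm ≪≫
    ((DeRham.cx hd).sc n).mapHomologyIso (forget₂ (ModuleCat.{u} R) AddCommGrpCat.{u})).addCommGroupIsoToAddEquiv)⟩

end Spec

end Groth.Agent.HdRLib
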