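import Groth.Agent.HdRLib.FiniteTerms

/-!
# Hypercohomology of a complex whose terms are concentrated in one bidegree
-/

set_option autoImplicit false
set_option linter.style.haveILetI false
set_option backward.isDefEq.respectTransparency false

universe w' w v u u'

open CategoryTheory CategoryTheory.Limits DerivedCategory Pretriangulated

noncomputable section

namespace Groth.Agent.HdRLib

variable {A : Type u} [Category.{v} A] [Abelian A] [HasDerivedCategory.{w} A]
  {R : Type u'} [CommRing R]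

/-- The scalars on the complex with one term. -/
abbrev singleρ {K : CochainComplex A ℤ} (ρ : R →+* End K) (j : ℤ) :
    R →+* End ((HomologicalComplex.single A (ComplexShape.up ℤ) j).obj (K.X j)) :=
  (endMap (HomologicalComplex.single A (ComplexShape.up ℤ) j) (K.X j)).comp ((atDeg K j).comp ρ)

theorem subsingleton_HTρ_of_lt (T : A) (K : CochainComplex A ℤ) (ρ : R →+* End K) (i a : ℤ) [K.IsStrictlyGE a]
    (h : i < a) : Subsingleton (KLinDR.HTρ T K ρ i) := by
  refine (RlimCrit.hdu T i (Q.obj K)).toEquiv.subsingleton_congr.1 ⟨fun x y => ?_⟩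
  haveI : K.IsGE a := inferInstance
  haveI : (Q.obj K).IsGE a := inferInstance
  haveI : ((singleFunctor A i).obj T).IsLE i := inferInstance
  exact (TStructure.t.zero_of_isLE_of_isGE x i a h inferInstance inferInstance).trans
    (TStructure.t.zero_of_isLE_of_isGE y i a h inferInstance inferInstance).symm

theorem subsingleton_HTρ_single_of_lt (T N : A) {j : ℤ} (ν : R →+* End ((HomologicalComplex.single A (ComplexShape.up ℤ) j).obj N))
    (i : ℤ) (h : i < j) :
    Subsingleton (KLinDR.HTρ T ((HomologicalComplex.single A (ComplexShape.up ℤ) j).obj N) ν i) := by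
  refine (RlimCrit.hdu T i _).toEquiv.subsingleton_congr.1 ⟨fun x y => ?_⟩
  exact (TStructure.t.zero_of_isLE_of_isGE x i j h inferInstance inferInstance).trans
    (TStructure.t.zero_of_isLE_of_isGE y i j h inferInstance inferInstance).symm

/-- Splitting off the lowest term. -/
theorem exists_step (K : CochainComplex A ℤ) (ρ : R →+* End K) (a : ℤ) [K.IsStrictlyGE a] :
    ∃ (K₁ : CochainComplex A ℤ) (ρ₁ : R →+* End K₁) (ι : K₁ ⟶ K)
      (π : K ⟶ (HomologicalComplex.single A (ComplexShape.up ℤ) a).obj (K.X a)) (w : ι ≫ π = 0),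
      (ShortComplex.mk ι π w).ShortExact ∧ K₁.IsStrictlyGE (a + 1) ∧ KLinDR.Commutes ρ₁ ρ ι ∧
      KLinDR.Commutes ρ (singleρ ρ a) π ∧ ∀ j, a < j → IsIso (ι.f j) := by
  let π : K ⟶ (HomologicalComplex.single A (ComplexShape.up ℤ) a).obj (K.X a) :=
    HomologicalComplex.mkHomToSingle (𝟙 (K.X a)) fun j hj => by
      rw [(K.isZero_of_isStrictlyGE a j (by simp at hj; omega)).eq_of_src (K.d j a) 0, zero_comp]
  haveI : ∀ j, Epi (π.f j) := fun j => by
    by_cases hj : j = a
    · subst hj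
      rw [HomologicalComplex.mkHomToSingle_f]
      infer_instance
    · exact ⟨fun x y _ => (HomologicalComplex.isZero_single_obj_X _ a (K.X a) j hj).eq_of_src x y⟩
  haveI : Epi π := HomologicalComplex.epi_of_epi_f π inferInstance
  let S : ShortComplex (CochainComplex A ℤ) := ShortComplex.mk (kernel.ι π) π (kernel.condition π)
  have hS : S.ShortExact := by
    haveI : Mono S.f := inferInstanceAs (Mono (kernel.ι π))
    haveI : Epi S.g := inferInstanceAs (Epi π)
    exact ⟨ShortComplex.exact_kernel π⟩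
  have h₂ : KLinDR.Commutes ρ (singleρ ρ a) π := fun r => by
    apply HomologicalComplex.to_single_hom_ext
    simp [π, endMap_apply, atDeg_apply, HomologicalComplex.single_map_f_self]
  have hk : ∀ r : R, (kernel.ι π ≫ (ρ r : K ⟶ K)) ≫ π = 0 := fun r => by
    rw [Category.assoc, h₂ r, kernel.condition_assoc, zero_comp]
  let ρ₁ : R →+* End (kernel π) :=
    { toFun := fun r => kernel.lift π (kernel.ι π ≫ (ρ r : K ⟶ K)) (hk r)
      map_one' := by
        rw [← cancel_mono (kernel.ι π)]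
        simp [End.one_def]
      map_mul' := fun r s => by
        rw [← cancel_mono (kernel.ι π)]
        simp [End.mul_def]
      map_zero' := by
        rw [← cancel_mono (kernel.ι π)]
        simp
      map_add' := fun r s => by
        refine (cancel_mono (kernel.ι π)).1 ?_
        show kernel.lift π (kernel.ι π ≫ (ρ (r + s) : K ⟶ K)) _ ≫ kernel.ι π =
          (kernel.lift π (kernel.ι π ≫ (ρ r : K ⟶ K)) _ + kernel.lift π (kernel.ι π ≫ (ρ s : K ⟶ K)) _) ≫ kernel.ι π
        rw [Preadditive.add_comp, kernel.lift_ι, kernel.lift_ι, kernel.lift_ι, map_add]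
        exact Preadditive.comp_add _ _ _ _ _ _ }
  have hι : ∀ j, a < j → IsIso ((kernel.ι π).f j) := fun j hj => by
    have hex := hS.exact.map (HomologicalComplex.eval A (ComplexShape.up ℤ) j)
    haveI : Mono ((kernel.ι π).f j) :=
      inferInstanceAs (Mono ((HomologicalComplex.eval A (ComplexShape.up ℤ) j).map (kernel.ι π)))
    haveI : Epi ((kernel.ι π).f j) := hex.epi_f
      ((HomologicalComplex.isZero_single_obj_X (ComplexShape.up ℤ) a (K.X a) j (by omega)).eq_of_tgt _ _)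
    exact isIso_of_mono_of_epi _
  refine ⟨kernel π, ρ₁, kernel.ι π, π, kernel.condition π, hS, ?_, fun r => kernel.lift_ι π _ (hk r), h₂, hι⟩
  refine (CochainComplex.isStrictlyGE_iff _ _).2 fun j hj => ?_
  haveI : Mono ((kernel.ι π).f j) :=
    inferInstanceAs (Mono ((HomologicalComplex.eval A (ComplexShape.up ℤ) j).map (kernel.ι π)))
  by_cases hja : j = a
  · subst hja
    haveI : IsIso (π.f j) := by
      rw [HomologicalComplex.mkHomToSingle_f]
      infer_instance
    refine IsZero.of_mono_eq_zero ((kernel.ι π).f j) ?_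
    have : (kernel.ι π).f j ≫ π.f j = 0 := by
      rw [← HomologicalComplex.comp_f, kernel.condition, HomologicalComplex.zero_f]
    rw [← cancel_mono (π.f j), this, zero_comp]
  · exact IsZero.of_mono ((kernel.ι π).f j) (K.isZero_of_isStrictlyGE a j (by omega))

theorem subsingleton_sgl_shift (T : A) {K : CochainComplex A ℤ} (ρ : R →+* End K) (i m n : ℤ) (hn : m + i = n)
    [Subsingleton (KLinDR.HTρ T K ρ n)] : Subsingleton (RlimCrit.sgl i T ⟶ (Q.obj K)⟦m⟧) := by
  haveI : Subsingleton ((singleFunctor A 0).obj T ⟶ (Q.obj K)⟦n⟧) := ‹Subsingleton (KLinDR.HTρ T K ρ n)›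
  haveI : Subsingleton ((singleFunctor A 0).obj T ⟶ ((Q.obj K)⟦m⟧)⟦i⟧) :=
    ((shiftFunctorAdd' (DerivedCategory A) m i n hn).app (Q.obj K)).symm.homToEquiv.subsingleton
  exact (RlimCrit.hdu T i _).toEquiv.subsingleton

theorem exact_middle (T : A) {S : ShortComplex (CochainComplex A ℤ)} (hS : S.ShortExact)
    {ρ₁ : R →+* End S.X₁} {ρ₂ : R →+* End S.X₂} {ρ₃ : R →+* End S.X₃} (h₁ : KLinDR.Commutes ρ₁ ρ₂ S.f)
    (h₂ : KLinDR.Commutes ρ₂ ρ₃ S.g) (i : ℤ) :
    Function.Exact (KLinDR.HTρmap T S.f h₁ i) (KLinDR.HTρmap T S.g h₂ i) := by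
  intro y
  constructor
  · intro hy
    let ξ := (RlimCrit.hdu T i (Q.obj S.X₂)).symm (KLinDR.HTρ.toHT y)
    have hξ : ξ ≫ Q.map S.g = 0 := by
      rw [← RlimCrit.hdu_symm_comp]
      exact (congrArg (RlimCrit.hdu T i (Q.obj S.X₃)).symm hy).trans (map_zero _)
    obtain ⟨g, hg⟩ := Triangle.coyoneda_exact₂ _ (triangleOfSES_distinguished hS) ξ hξ
    refine ⟨KLinDR.HTρ.toHT.symm (RlimCrit.hdu T i (Q.obj S.X₁) g), ?_⟩
    show RlimCrit.hdu T i _ g ≫ (shiftFunctor (DerivedCategory A) i).map (Q.map S.f) = _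
    rw [← RlimCrit.hdu_comp]
    exact (congrArg (RlimCrit.hdu T i _) hg.symm).trans ((RlimCrit.hdu T i _).apply_symm_apply _)
  · rintro ⟨x, rfl⟩
    show (KLinDR.HTρ.toHT x ≫ (shiftFunctor (DerivedCategory A) i).map (Q.map S.f)) ≫
      (shiftFunctor (DerivedCategory A) i).map (Q.map S.g) = 0
    rw [Category.assoc, ← Functor.map_comp, ← Functor.map_comp, S.zero]
    simp

theorem injective_left (T : A) {S : ShortComplex (CochainComplex A ℤ)} (hS : S.ShortExact)
    {ρ₁ : R →+* End S.X₁} {ρ₂ : R →+* End S.X₂} (ρ₃ : R →+* End S.X₃) (h₁ : KLinDR.Commutes ρ₁ ρ₂ S.f)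
    (i : ℤ) [Subsingleton (KLinDR.HTρ T S.X₃ ρ₃ (i - 1))] :
    Function.Injective (KLinDR.HTρmap T S.f h₁ i) := by
  rw [injective_iff_map_eq_zero]
  intro x hx
  let ξ := (RlimCrit.hdu T i (Q.obj S.X₁)).symm (KLinDR.HTρ.toHT x)
  have hξ : ξ ≫ Q.map S.f = 0 := by
    rw [← RlimCrit.hdu_symm_comp]
    exact (congrArg (RlimCrit.hdu T i (Q.obj S.X₂)).symm hx).trans (map_zero _)
  obtain ⟨g, hg⟩ := Triangle.coyoneda_exact₂ _ (inv_rot_of_distTriang _ (triangleOfSES_distinguished hS)) ξ hξ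
  haveI : Subsingleton (RlimCrit.sgl i T ⟶ (Q.obj S.X₃)⟦(-1 : ℤ)⟧) :=
    subsingleton_sgl_shift T ρ₃ i (-1) (i - 1) (by omega)
  have hξ0 : ξ = 0 := by
    rw [hg, @Subsingleton.elim _ ‹_› g 0, zero_comp]
  have := congrArg (RlimCrit.hdu T i (Q.obj S.X₁)) hξ0
  rw [AddEquiv.apply_symm_apply, map_zero] at this
  exact this

theorem surjective_right (T : A) {S : ShortComplex (CochainComplex A ℤ)} (hS : S.ShortExact)
    (ρ₁ : R →+* End S.X₁) {ρ₂ : R →+* End S.X₂} {ρ₃ : R →+* End S.X₃} (h₂ : KLinDR.Commutes ρ₂ ρ₃ S.g)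
    (i : ℤ) [Subsingleton (KLinDR.HTρ T S.X₁ ρ₁ (i + 1))] :
    Function.Surjective (KLinDR.HTρmap T S.g h₂ i) := fun z => by
  let ξ := (RlimCrit.hdu T i (Q.obj S.X₃)).symm (KLinDR.HTρ.toHT z)
  haveI : Subsingleton (RlimCrit.sgl i T ⟶ (Q.obj S.X₁)⟦(1 : ℤ)⟧) :=
    subsingleton_sgl_shift T ρ₁ i 1 (i + 1) (by omega)
  obtain ⟨g, hg⟩ := Triangle.coyoneda_exact₃ _ (triangleOfSES_distinguished hS) ξ
    (@Subsingleton.elim _ ‹_› _ _)
  refine ⟨KLinDR.HTρ.toHT.symm (RlimCrit.hdu T i (Q.obj S.X₂) g), ?_⟩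
  show RlimCrit.hdu T i _ g ≫ (shiftFunctor (DerivedCategory A) i).map (Q.map S.g) = _
  rw [← RlimCrit.hdu_comp]
  exact (congrArg (RlimCrit.hdu T i _) hg.symm).trans ((RlimCrit.hdu T i _).apply_symm_apply _)

theorem single_transport (T : A) {K K₁ : CochainComplex A ℤ} {ρ : R →+* End K} {ρ₁ : R →+* End K₁} (ι : K₁ ⟶ K)
    (h : KLinDR.Commutes ρ₁ ρ ι) (j : ℤ) [IsIso (ι.f j)] (i : ℤ) :
    Nonempty (KLinDR.HTρ T ((HomologicalComplex.single A (ComplexShape.up ℤ) j).obj (K₁.X j)) (singleρ ρ₁ j) i ≃ₗ[R]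
      KLinDR.HTρ T ((HomologicalComplex.single A (ComplexShape.up ℤ) j).obj (K.X j)) (singleρ ρ j) i) := by
  let φ := (HomologicalComplex.single A (ComplexShape.up ℤ) j).map (ι.f j)
  have hφ : KLinDR.Commutes (singleρ ρ₁ j) (singleρ ρ j) φ := fun r => by
    simp only [RingHom.comp_apply, endMap_apply, atDeg_apply, φ, ← Functor.map_comp]
    congr 1
    rw [← HomologicalComplex.comp_f, ← HomologicalComplex.comp_f]
    exact congrArg (fun m : K₁ ⟶ K => m.f j) (h r)
  exact ⟨LinearEquiv.ofBijective (KLinDR.HTρmap T φ hφ i) (HTρmap_bijective T φ hφ i)⟩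

/-- A complex whose terms contribute nothing has no hypercohomology. -/
theorem subsingleton_of_singles (T : A) (i : ℤ) : ∀ (l : ℕ) (a : ℤ) (K : CochainComplex A ℤ) (ρ : R →+* End K),
    K.IsStrictlyGE a → i < a + l →
    (∀ j, a ≤ j → j ≤ i → Subsingleton (KLinDR.HTρ T
      ((HomologicalComplex.single A (ComplexShape.up ℤ) j).obj (K.X j)) (singleρ ρ j) i)) →
    Subsingleton (KLinDR.HTρ T K ρ i) := by
  intro l
  induction l with
  | zero =>
    intro a K ρ hge hi _
    exact subsingleton_HTρ_of_lt T K ρ i a (by omega)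
  | succ l ih =>
    intro a K ρ hge hi hs
    by_cases hai : i < a
    · exact subsingleton_HTρ_of_lt T K ρ i a hai
    obtain ⟨K₁, ρ₁, ι, π, w, hS, hge₁, h₁, h₂, hι⟩ := exists_step K ρ a
    haveI : Subsingleton (KLinDR.HTρ T K₁ ρ₁ i) := by
      refine ih (a + 1) K₁ ρ₁ hge₁ (by omega) fun j hj hji => ?_
      haveI := hι j (by omega)
      haveI := hs j (by omega) hji
      obtain ⟨e⟩ := single_transport T ι h₁ j i
      exact e.toEquiv.subsingleton
    haveI := hs a le_rfl (by omega)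
    refine subsingleton_of_forall_eq 0 fun y => ?_
    obtain ⟨x, rfl⟩ := (exact_middle T hS h₁ h₂ i y).1 (Subsingleton.elim _ _)
    rw [Subsingleton.elim x 0, map_zero]

/-- A complex whose terms are concentrated in one bidegree has the hypercohomology of that term. -/
theorem nonempty_equiv_single (T : A) (i p : ℤ) : ∀ (l : ℕ) (a : ℤ) (K : CochainComplex A ℤ) (ρ : R →+* End K),
    K.IsStrictlyGE a → p = a + l →
    (∀ j n, a ≤ j → ((j ≠ p ∧ n = i) ∨ (j < p ∧ n = i - 1) ∨ (p < j ∧ n = i + 1)) →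
      Subsingleton (KLinDR.HTρ T
        ((HomologicalComplex.single A (ComplexShape.up ℤ) j).obj (K.X j)) (singleρ ρ j) n)) →
    Nonempty (KLinDR.HTρ T K ρ i ≃ₗ[R]
      KLinDR.HTρ T ((HomologicalComplex.single A (ComplexShape.up ℤ) p).obj (K.X p)) (singleρ ρ p) i) := by
  intro l
  induction l with
  | zero =>
    intro a K ρ hge hp hs
    obtain rfl : p = a := by omega
    obtain ⟨K₁, ρ₁, ι, π, w, hS, hge₁, h₁, h₂, hι⟩ := exists_step K ρ p
    have hsub : ∀ n, n = i ∨ n = i + 1 → Subsingleton (KLinDR.HTρ T K₁ ρ₁ n) := fun n hn => by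
      refine subsingleton_of_singles T n (n - p).toNat (p + 1) K₁ ρ₁ hge₁ (by omega) fun j hj hjn => ?_
      haveI := hι j (by omega)
      haveI := hs j n (by omega) (by omega)
      obtain ⟨e⟩ := single_transport T ι h₁ j n
      exact e.toEquiv.subsingleton
    haveI := hsub i (Or.inl rfl)
    haveI := hsub (i + 1) (Or.inr rfl)
    refine ⟨LinearEquiv.ofBijective (KLinDR.HTρmap T π h₂ i) ⟨?_, surjective_right T hS ρ₁ h₂ i⟩⟩
    rw [injective_iff_map_eq_zero]
    intro y hy
    obtain ⟨x, rfl⟩ := (exact_middle T hS h₁ h₂ i y).1 hy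
    rw [Subsingleton.elim x 0, map_zero]
  | succ l ih =>
    intro a K ρ hge hp hs
    obtain ⟨K₁, ρ₁, ι, π, w, hS, hge₁, h₁, h₂, hι⟩ := exists_step K ρ a
    haveI := hs a i le_rfl (Or.inl ⟨by omega, rfl⟩)
    haveI := hs a (i - 1) le_rfl (Or.inr (Or.inl ⟨by omega, rfl⟩))
    haveI := hι p (by omega)
    obtain ⟨e⟩ := ih (a + 1) K₁ ρ₁ hge₁ (by omega) fun j n hj hjn => by
      haveI := hι j (by omega)
      haveI := hs j n (by omega) hjn
      obtain ⟨e⟩ := single_transport T ι h₁ j n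
      exact e.toEquiv.subsingleton
    obtain ⟨e'⟩ := single_transport T ι h₁ p i
    refine ⟨((LinearEquiv.ofBijective (KLinDR.HTρmap T ι h₁ i)
      ⟨injective_left T hS (singleρ ρ a) h₁ i, fun y => ?_⟩).symm.trans e).trans e'⟩
    exact (exact_middle T hS h₁ h₂ i y).1 (Subsingleton.elim _ _)

variable [HasExt.{w'} A]

/-- Extensions compute the hypercohomology of an object in one degree, with scalars. -/
theorem nonempty_single_equiv (T N : A) (μ : R →+* End N) (i j : ℤ) (k : ℕ) (hk : i = j + k)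
    [Module R (Abelian.Ext.{w'} T N k)]
    (hμ : ∀ (r : R) (x : Abelian.Ext.{w'} T N k), r • x = x.comp (Abelian.Ext.mk₀ (μ r)) (add_zero k)) :
    Nonempty (Abelian.Ext.{w'} T N k ≃ₗ[R] KLinDR.HTρ T ((HomologicalComplex.single A (ComplexShape.up ℤ) j).obj N)
      ((endMap (HomologicalComplex.single A (ComplexShape.up ℤ) j) N).comp μ) i) := by
  let e : singleFunctor A 0 ⋙ shiftFunctor _ (k : ℤ) ≅ singleFunctor A j ⋙ shiftFunctor _ i :=
    (singleFunctors A).shiftIso (k : ℤ) (-(k : ℤ)) 0 (by omega) ≪≫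
      ((singleFunctors A).shiftIso i (-(k : ℤ)) j (by omega)).symm
  have hnat : ∀ (f : N ⟶ N) (x : Abelian.Ext.{w'} T N k),
      (x.comp (Abelian.Ext.mk₀ f) (add_zero k)).hom ≫ e.hom.app N =
      (x.hom ≫ e.hom.app N) ≫ (shiftFunctor _ i).map ((singleFunctor A j).map f) := fun f x => by
    rw [Abelian.Ext.comp_hom, Abelian.Ext.mk₀_hom, ShiftedHom.comp_mk₀, Category.assoc, Category.assoc]
    exact congrArg (x.hom ≫ ·) (e.hom.naturality f)
  let L : Abelian.Ext.{w'} T N k →ₗ[R] KLinDR.HTρ T ((HomologicalComplex.single A (ComplexShape.up ℤ) j).obj N)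
      ((endMap (HomologicalComplex.single A (ComplexShape.up ℤ) j) N).comp μ) i :=
    { toFun := fun x => KLinDR.HTρ.toHT.symm (x.hom ≫ e.hom.app N)
      map_add' := fun x y => by
        show (x + y).hom ≫ e.hom.app N = x.hom ≫ e.hom.app N + y.hom ≫ e.hom.app N
        rw [Abelian.Ext.add_hom, Preadditive.add_comp]
      map_smul' := fun r x => by
        show (r • x).hom ≫ e.hom.app N =
          (x.hom ≫ e.hom.app N) ≫ (shiftFunctor _ i).map ((singleFunctor A j).map (μ r))
        rw [hμ, hnat] }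
  refine ⟨LinearEquiv.ofBijective L ⟨fun x y h => ?_, fun z => ?_⟩⟩
  · exact Abelian.Ext.homEquiv.injective ((cancel_mono (e.hom.app N)).1 h)
  · refine ⟨Abelian.Ext.homEquiv.symm (KLinDR.HTρ.toHT z ≫ e.inv.app N), ?_⟩
    show Abelian.Ext.homEquiv (Abelian.Ext.homEquiv.symm (KLinDR.HTρ.toHT z ≫ e.inv.app N)) ≫ e.hom.app N = z
    rw [Equiv.apply_symm_apply, Category.assoc, Iso.inv_hom_id_app]
    exact Category.comp_id _

end Groth.Agent.HdRLib
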