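import Groth.Prelude.Def_CohCx
import Groth.Agent.RlimCrit.Shift
import Mathlib.Algebra.Homology.HomologicalComplexAbelian
import Mathlib.Algebra.Homology.DerivedCategory.ShortExact

/-!
# Vanishing of morphisms into a bounded complex from vanishing on its terms
-/

set_option autoImplicit false
set_option backward.isDefEq.respectTransparency false
set_option linter.style.haveILetI false

universe w' w v u

open CategoryTheory CategoryTheory.Limits DerivedCategory Pretriangulated

noncomputable section

namespace Groth.Agent.HdRLib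

variable {A : Type u} [Category.{v} A] [Abelian A] [HasDerivedCategory.{w} A]

open RlimCrit in
/-- A bounded complex receives no morphism from degree `q` if none of its terms does. -/
theorem subsingleton_hom_of_terms (M : A) (q : ℤ) : ∀ (l : ℕ) (a : ℤ) (K : CochainComplex A ℤ),
    K.IsStrictlyGE a → K.IsStrictlyLE (a + l - 1) →
      (∀ i, a ≤ i → i ≤ a + l - 1 → Subsingleton (sgl q M ⟶ sgl i (K.X i))) →
      Subsingleton (sgl q M ⟶ Q.obj K) := by
  intro l
  induction l with
  | zero =>
    intro a K hge hle _
    have hz : IsZero K := (IsZero.iff_id_eq_zero _).2 (HomologicalComplex.hom_ext _ _ fun i => by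
      by_cases hi : i < a
      · exact (K.isZero_of_isStrictlyGE a i hi).eq_of_src _ _
      · exact (K.isZero_of_isStrictlyLE (a + (0 : ℕ) - 1) i (by omega)).eq_of_src _ _)
    exact subsingleton_of_forall_eq 0 fun z => ((Q.map_isZero hz).eq_of_tgt _ _)
  | succ l ih =>
    intro a K hge hle h
    let b : ℤ := a + l
    let ι : (HomologicalComplex.single A (ComplexShape.up ℤ) b).obj (K.X b) ⟶ K :=
      HomologicalComplex.mkHomFromSingle (𝟙 (K.X b)) fun j hj => by
        rw [(K.isZero_of_isStrictlyLE (a + (l + 1 : ℕ) - 1) j (by simp [b] at hj; omega)).eq_of_tgt (K.d b j) 0,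
          comp_zero]
    have hιb : IsIso (ι.f b) := by
      rw [HomologicalComplex.mkHomFromSingle_f]
      infer_instance
    haveI : ∀ i, Mono (ι.f i) := fun i => by
      by_cases hi : i = b
      · subst hi; infer_instance
      · exact ⟨fun x y _ => (HomologicalComplex.isZero_single_obj_X _ b (K.X b) i hi).eq_of_tgt x y⟩
    haveI : Mono ι := HomologicalComplex.mono_of_mono_f ι inferInstance
    let S : ShortComplex (CochainComplex A ℤ) := ShortComplex.mk ι (cokernel.π ι) (cokernel.condition ι)
    have hS : S.ShortExact := by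
      haveI : Mono S.f := inferInstanceAs (Mono ι)
      haveI : Epi S.g := inferInstanceAs (Epi (cokernel.π ι))
      exact ⟨ShortComplex.exact_cokernel ι⟩
    have hπ : ∀ i, Epi ((cokernel.π ι).f i) := fun i =>
      inferInstanceAs (Epi ((HomologicalComplex.eval A (ComplexShape.up ℤ) i).map (cokernel.π ι)))
    have hb : IsZero ((cokernel ι).X b) := by
      haveI := hπ b
      have h0 : (cokernel.π ι).f b = 0 := by
        rw [← cancel_epi (ι.f b), comp_zero, ← HomologicalComplex.comp_f, cokernel.condition, HomologicalComplex.zero_f]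
      exact IsZero.of_epi_eq_zero ((cokernel.π ι).f b) h0
    have hout : ∀ i, IsZero (K.X i) → IsZero ((cokernel ι).X i) := fun i hi => by
      haveI := hπ i
      exact IsZero.of_epi ((cokernel.π ι).f i) hi
    haveI hge' : CochainComplex.IsStrictlyGE (cokernel ι) a := (CochainComplex.isStrictlyGE_iff _ _).2 fun i hi =>
      hout i (K.isZero_of_isStrictlyGE a i hi)
    haveI hle' : CochainComplex.IsStrictlyLE (cokernel ι) (a + l - 1) := (CochainComplex.isStrictlyLE_iff _ _).2 fun i hi => by
      by_cases hib : i = b
      · rw [hib]; exact hb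
      · exact hout i (K.isZero_of_isStrictlyLE (a + (l + 1 : ℕ) - 1) i (by simp [b] at hib hi ⊢; omega))
    haveI h3 : Subsingleton (sgl q M ⟶ Q.obj (cokernel ι)) := ih a _ hge' hle' fun i hai hil => by
      haveI : IsIso ((cokernel.π ι).f i) := by
        have hex := hS.exact.map (HomologicalComplex.eval A (ComplexShape.up ℤ) i)
        haveI := hπ i
        haveI : Mono ((cokernel.π ι).f i) := hex.mono_g
          ((HomologicalComplex.isZero_single_obj_X (ComplexShape.up ℤ) b (K.X b) i (by simp [b]; omega)).eq_of_src _ _)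
        exact isIso_of_mono_of_epi _
      exact (Q.mapIso ((HomologicalComplex.single A (ComplexShape.up ℤ) i).mapIso
        (asIso ((cokernel.π ι).f i)))).homToEquiv.subsingleton_congr.1 (h i hai (by omega))
    haveI h1 : Subsingleton (sgl q M ⟶ Q.obj S.X₁) := h b (by simp [b]) (by simp [b])
    refine subsingleton_of_forall_eq 0 fun z => ?_
    obtain ⟨g, hg⟩ := Triangle.coyoneda_exact₂ _ (triangleOfSES_distinguished hS) z
      (Subsingleton.elim (α := sgl q M ⟶ Q.obj (cokernel ι)) _ _)
    rw [hg, Subsingleton.elim (α := sgl q M ⟶ Q.obj S.X₁) g 0]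
    exact zero_comp

variable [HasExt.{w'} A]

/-- Hom into a bounded complex vanishes when the extensions into its terms do. -/
theorem subsingleton_shift_of_terms (M : A) (K : CochainComplex A ℤ) (n : ℕ) [K.IsStrictlyGE 0]
    [K.IsStrictlyLE (n : ℤ)] (i : ℤ) (hi : (n : ℤ) ≤ i)
    (h : ∀ (m : ℕ) (k : ℕ), m ≤ n → (m : ℤ) + k = i → Subsingleton (Abelian.Ext.{w'} M (K.X (m : ℤ)) k)) :
    Subsingleton ((singleFunctor A 0).obj M ⟶ (Q.obj K)⟦i⟧) := by
  refine (RlimCrit.hdu M i (Q.obj K)).toEquiv.subsingleton_congr.1 ?_
  refine subsingleton_hom_of_terms M i (n + 1) 0 K inferInstance ?_ fun m hm hmn => ?_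
  · exact CochainComplex.isStrictlyLE_of_le K (n : ℤ) _ (by omega)
  · obtain ⟨m', rfl⟩ := Int.eq_ofNat_of_zero_le hm
    exact RlimCrit.subsingleton_hom_single M (K.X (m' : ℤ)) i (m' : ℤ) (i - m').toNat (by omega)
      (h m' _ (by omega) (by omega))

end Groth.Agent.HdRLib
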