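import Groth.Prelude.Def_KLinDR
import Groth.Agent.RlimCrit.Shift
import Mathlib.Algebra.Homology.HomologicalComplexAbelian
import Mathlib.Algebra.Homology.DerivedCategory.ShortExact
import Mathlib.Algebra.Homology.DerivedCategory.Ext.Basic
import Mathlib.RingTheory.Noetherian.Basic
/-!
Finiteness of hypercohomology modules from the terms of a complex.
-/

set_option autoImplicit false
set_option linter.style.haveILetI false
set_option backward.isDefEq.respectTransparency false

universe w' w v u u'

open CategoryTheory CategoryTheory.Limits DerivedCategory Pretriangulated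

noncomputable section

namespace Groth.Agent.HdRLib

variable {A : Type u} [Category.{v} A] [Abelian A] [HasDerivedCategory.{w} A]
  {R : Type u'} [CommRing R]

/-- An additive functor on endomorphisms, as a ring map. -/
def endMap {C : Type*} [Category C] [Preadditive C] {D : Type*} [Category D] [Preadditive D]
    (F : C ⥤ D) [F.Additive] (X : C) : End X →+* End (F.obj X) where
  toFun f := F.map f
  map_one' := F.map_id X
  map_mul' f g := F.map_comp g f
  map_zero' := F.map_zero _ _
  map_add' _ _ := F.map_add

theorem endMap_apply {C : Type*} [Category C] [Preadditive C] {D : Type*} [Category D] [Preadditive D]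
    (F : C ⥤ D) [F.Additive] (X : C) (f : End X) : endMap F X f = F.map f := rfl

/-- The value in one degree, as a ring map on endomorphisms. -/
def atDeg (K : CochainComplex A ℤ) (j : ℤ) : End K →+* End (K.X j) where
  toFun f := HomologicalComplex.Hom.f f j
  map_one' := rfl
  map_mul' _ _ := rfl
  map_zero' := rfl
  map_add' _ _ := rfl

theorem atDeg_apply (K : CochainComplex A ℤ) (j : ℤ) (f : End K) :
    atDeg K j f = HomologicalComplex.Hom.f f j := rfl

theorem HTρmap_bijective (T : A) {K L : CochainComplex A ℤ} {ρ : R →+* End K} {ρ' : R →+* End L} (φ : K ⟶ L)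
    [IsIso φ] (h : KLinDR.Commutes ρ ρ' φ) (n : ℤ) : Function.Bijective (KLinDR.HTρmap T φ h n) := by
  haveI : IsIso ((shiftFunctor (DerivedCategory A) n).map (Q.map φ)) := inferInstance
  refine ⟨fun x y e => ?_, fun z => ?_⟩
  · exact (cancel_mono ((shiftFunctor (DerivedCategory A) n).map (Q.map φ))).1 e
  · refine ⟨KLinDR.HTρ.toHT.symm (KLinDR.HTρ.toHT z ≫ inv ((shiftFunctor (DerivedCategory A) n).map (Q.map φ))), ?_⟩
    show (KLinDR.HTρ.toHT z ≫ inv ((shiftFunctor (DerivedCategory A) n).map (Q.map φ))) ≫
      (shiftFunctor (DerivedCategory A) n).map (Q.map φ) = z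
    rw [Category.assoc, IsIso.inv_hom_id]
    exact Category.comp_id _

/-- The middle term of a short exact sequence with finite ends is finite. -/
theorem finite_middle [IsNoetherianRing R] (T : A) {S : ShortComplex (CochainComplex A ℤ)} (hS : S.ShortExact)
    {ρ₁ : R →+* End S.X₁} {ρ₂ : R →+* End S.X₂} {ρ₃ : R →+* End S.X₃} (h₁ : KLinDR.Commutes ρ₁ ρ₂ S.f)
    (h₂ : KLinDR.Commutes ρ₂ ρ₃ S.g) (i : ℤ) [Module.Finite R (KLinDR.HTρ T S.X₁ ρ₁ i)]
    [Module.Finite R (KLinDR.HTρ T S.X₃ ρ₃ i)] : Module.Finite R (KLinDR.HTρ T S.X₂ ρ₂ i) := by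
  have hex : Function.Exact (KLinDR.HTρmap T S.f h₁ i) (KLinDR.HTρmap T S.g h₂ i) := by
    intro y
    constructor
    · intro hy
      let ξ := (RlimCrit.hdu T i (Q.obj S.X₂)).symm (KLinDR.HTρ.toHT y)
      have hξ : ξ ≫ Q.map S.g = 0 := by
        rw [← RlimCrit.hdu_symm_comp]
        exact (congrArg (RlimCrit.hdu T i (Q.obj S.X₃)).symm hy).trans (map_zero _)
      obtain ⟨g, hg⟩ := Triangle.coyoneda_exact₂ _ (triangleOfSES_distinguished hS) ξ hξ
      refine ⟨KLinDR.HTρ.toHT.symm (RlimCrit.hdu T i (Q.obj S.X₁) g), ?_⟩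
      show RlimCrit.hdu T i _ g ≫ (shiftFunctor (DerivedCategory A) i).map (Q.map S.f) = _
      rw [← RlimCrit.hdu_comp]
      exact (congrArg (RlimCrit.hdu T i _) hg.symm).trans ((RlimCrit.hdu T i _).apply_symm_apply _)
    · rintro ⟨x, rfl⟩
      show (KLinDR.HTρ.toHT x ≫ (shiftFunctor (DerivedCategory A) i).map (Q.map S.f)) ≫
        (shiftFunctor (DerivedCategory A) i).map (Q.map S.g) = 0
      rw [Category.assoc, ← Functor.map_comp, ← Functor.map_comp, S.zero]
      simp
  let f := KLinDR.HTρmap T S.f h₁ i
  let g := KLinDR.HTρmap T S.g h₂ i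
  refine ⟨Submodule.fg_of_fg_map_of_fg_inf_ker g ?_ ?_⟩
  · rw [Submodule.map_top]
    exact IsNoetherian.noetherian _
  · rw [top_inf_eq, hex.linearMap_ker_eq, ← Submodule.map_top]
    exact (Module.finite_def.1 inferInstance).map f

/-- Finiteness for a bounded below complex from finiteness for its terms up to the degree. -/
theorem finite_of_terms [IsNoetherianRing R] (T : A) (i : ℤ) : ∀ (l : ℕ) (a : ℤ) (K : CochainComplex A ℤ)
    (ρ : R →+* End K), K.IsStrictlyGE a → i < a + l →
    (∀ j, a ≤ j → j ≤ i → Module.Finite R (KLinDR.HTρ T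
      ((HomologicalComplex.single A (ComplexShape.up ℤ) j).obj (K.X j))
      ((endMap (HomologicalComplex.single A (ComplexShape.up ℤ) j) (K.X j)).comp
        ((atDeg K j).comp ρ)) i)) →
    Module.Finite R (KLinDR.HTρ T K ρ i) := by
  intro l
  induction l with
  | zero =>
    intro a K ρ hge hi _
    haveI : Subsingleton (KLinDR.HTρ T K ρ i) := by
      refine (RlimCrit.hdu T i (Q.obj K)).toEquiv.subsingleton_congr.1 ⟨fun x y => ?_⟩
      haveI : K.IsGE a := inferInstance
      haveI : (Q.obj K).IsGE a := inferInstance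
      haveI : ((singleFunctor A i).obj T).IsLE i := inferInstance
      exact (TStructure.t.zero_of_isLE_of_isGE x i a (by omega) inferInstance inferInstance).trans
        (TStructure.t.zero_of_isLE_of_isGE y i a (by omega) inferInstance inferInstance).symm
    infer_instance
  | succ l ih =>
    intro a K ρ hge hi hfin
    by_cases hai : i < a
    · exact ih a K ρ hge (by omega) hfin
    let π : K ⟶ (HomologicalComplex.single A (ComplexShape.up ℤ) a).obj (K.X a) :=
      HomologicalComplex.mkHomToSingle (𝟙 (K.X a)) fun j hj => by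
        rw [(K.isZero_of_isStrictlyGE a j (by simp at hj; omega)).eq_of_src (K.d j a) 0, zero_comp]
    haveI : ∀ j, Epi (π.f j) := fun j => by
      by_cases hj : j = a
      · subst hj
        rw [HomologicalComplex.mkHomToSingle_f]
        infer_instance
      · exact ⟨fun x y _ => (HomologicalComplex.isZero_single_obj_X _ a (K.X a) j hj).eq_of_src x y⟩
    haveI : Epi π := HomologicalComplex.epi_of_epi_f π inferInstance
    let S : ShortComplex (CochainComplex A ℤ) := ShortComplex.mk (kernel.ι π) π (kernel.condition π)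
    have hS : S.ShortExact := by
      haveI : Mono S.f := inferInstanceAs (Mono (kernel.ι π))
      haveI : Epi S.g := inferInstanceAs (Epi π)
      exact ⟨ShortComplex.exact_kernel π⟩
    let ρ₃ : R →+* End ((HomologicalComplex.single A (ComplexShape.up ℤ) a).obj (K.X a)) :=
      (endMap (HomologicalComplex.single A (ComplexShape.up ℤ) a) (K.X a)).comp
        ((atDeg K a).comp ρ)
    have h₂ : KLinDR.Commutes ρ ρ₃ π := fun r => by
      apply HomologicalComplex.to_single_hom_ext
      simp [π, ρ₃, endMap_apply, atDeg_apply, HomologicalComplex.single_map_f_self]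
    have hk : ∀ r : R, (kernel.ι π ≫ (ρ r : K ⟶ K)) ≫ π = 0 := fun r => by
      rw [Category.assoc, h₂ r, kernel.condition_assoc, zero_comp]
    let ρ₁ : R →+* End (kernel π) :=
      { toFun := fun r => kernel.lift π (kernel.ι π ≫ (ρ r : K ⟶ K)) (hk r)
        map_one' := by
          rw [← cancel_mono (kernel.ι π)]
          simp [End.one_def]
        map_mul' := fun r s => by
          rw [← cancel_mono (kernel.ι π)]
          simp [End.mul_def]
        map_zero' := by
          rw [← cancel_mono (kernel.ι π)]
          simp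
        map_add' := fun r s => by
          refine (cancel_mono (kernel.ι π)).1 ?_
          show kernel.lift π (kernel.ι π ≫ (ρ (r + s) : K ⟶ K)) _ ≫ kernel.ι π =
            (kernel.lift π (kernel.ι π ≫ (ρ r : K ⟶ K)) _ + kernel.lift π (kernel.ι π ≫ (ρ s : K ⟶ K)) _) ≫ kernel.ι π
          rw [Preadditive.add_comp, kernel.lift_ι, kernel.lift_ι, kernel.lift_ι, map_add]
          exact Preadditive.comp_add _ _ _ _ _ _ }
    have h₁ : KLinDR.Commutes ρ₁ ρ S.f := fun r => kernel.lift_ι π _ (hk r)
    have hι : ∀ j, a < j → IsIso ((kernel.ι π).f j) := fun j hj => by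
      have hex := hS.exact.map (HomologicalComplex.eval A (ComplexShape.up ℤ) j)
      haveI : Mono ((kernel.ι π).f j) :=
        inferInstanceAs (Mono ((HomologicalComplex.eval A (ComplexShape.up ℤ) j).map (kernel.ι π)))
      haveI : Epi ((kernel.ι π).f j) := hex.epi_f
        ((HomologicalComplex.isZero_single_obj_X (ComplexShape.up ℤ) a (K.X a) j (by omega)).eq_of_tgt _ _)
      exact isIso_of_mono_of_epi _
    haveI : CochainComplex.IsStrictlyGE (kernel π) (a + 1) := (CochainComplex.isStrictlyGE_iff _ _).2 fun j hj => by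
      haveI : Mono ((kernel.ι π).f j) :=
        inferInstanceAs (Mono ((HomologicalComplex.eval A (ComplexShape.up ℤ) j).map (kernel.ι π)))
      by_cases hja : j = a
      · subst hja
        haveI : IsIso (π.f j) := by
          rw [HomologicalComplex.mkHomToSingle_f]
          infer_instance
        refine IsZero.of_mono_eq_zero ((kernel.ι π).f j) ?_
        have : (kernel.ι π).f j ≫ π.f j = 0 := by
          rw [← HomologicalComplex.comp_f, kernel.condition, HomologicalComplex.zero_f]
        rw [← cancel_mono (π.f j), this, zero_comp]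
      · exact IsZero.of_mono ((kernel.ι π).f j) (K.isZero_of_isStrictlyGE a j (by omega))
    haveI : Module.Finite R (KLinDR.HTρ T S.X₃ ρ₃ i) := hfin a le_rfl (by omega)
    haveI : Module.Finite R (KLinDR.HTρ T S.X₁ ρ₁ i) := by
      refine ih (a + 1) (kernel π) ρ₁ inferInstance (by omega) fun j hj hji => ?_
      haveI := hι j (by omega)
      haveI := hfin j (by omega) hji
      let φ : (HomologicalComplex.single A (ComplexShape.up ℤ) j).obj (K.X j) ⟶
          (HomologicalComplex.single A (ComplexShape.up ℤ) j).obj ((kernel π).X j) :=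
        (HomologicalComplex.single A (ComplexShape.up ℤ) j).map (inv ((kernel.ι π).f j))
      have hφ : KLinDR.Commutes ((endMap (HomologicalComplex.single A (ComplexShape.up ℤ) j) (K.X j)).comp
          ((atDeg K j).comp ρ))
          ((endMap (HomologicalComplex.single A (ComplexShape.up ℤ) j) _).comp
          ((atDeg (kernel π) j).comp ρ₁)) φ := fun r => by
        simp only [RingHom.comp_apply, endMap_apply, atDeg_apply, φ, ← Functor.map_comp]
        congr 1
        rw [IsIso.eq_inv_comp, ← Category.assoc, IsIso.comp_inv_eq, ← HomologicalComplex.comp_f,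
          ← HomologicalComplex.comp_f]
        exact congrArg (fun m : kernel π ⟶ K => m.f j) (h₁ r).symm
      exact Module.Finite.of_surjective (KLinDR.HTρmap T φ hφ i) (HTρmap_bijective T φ hφ i).2
    exact finite_middle T hS h₁ h₂ i

variable [HasExt.{w'} A]

/-- Finiteness for an object placed in one degree from finiteness of extensions. -/
theorem finite_single (T N : A) (μ : R →+* End N) (i j : ℤ) (k : ℕ) (hk : i = j + k)
    [Module R (Abelian.Ext.{w'} T N k)]
    (hμ : ∀ (r : R) (x : Abelian.Ext.{w'} T N k), r • x = x.comp (Abelian.Ext.mk₀ (μ r)) (add_zero k))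
    [Module.Finite R (Abelian.Ext.{w'} T N k)] :
    Module.Finite R (KLinDR.HTρ T ((HomologicalComplex.single A (ComplexShape.up ℤ) j).obj N)
      ((endMap (HomologicalComplex.single A (ComplexShape.up ℤ) j) N).comp μ) i) := by
  let e : singleFunctor A 0 ⋙ shiftFunctor _ (k : ℤ) ≅ singleFunctor A j ⋙ shiftFunctor _ i :=
    (singleFunctors A).shiftIso (k : ℤ) (-(k : ℤ)) 0 (by omega) ≪≫
      ((singleFunctors A).shiftIso i (-(k : ℤ)) j (by omega)).symm
  let Φ : Abelian.Ext.{w'} T N k → KLinDR.HTρ T ((HomologicalComplex.single A (ComplexShape.up ℤ) j).obj N)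
      ((endMap (HomologicalComplex.single A (ComplexShape.up ℤ) j) N).comp μ) i :=
    fun x => KLinDR.HTρ.toHT.symm (x.hom ≫ e.hom.app N)
  have hnat : ∀ (f : N ⟶ N) (x : Abelian.Ext.{w'} T N k),
      (x.comp (Abelian.Ext.mk₀ f) (add_zero k)).hom ≫ e.hom.app N =
      (x.hom ≫ e.hom.app N) ≫ (shiftFunctor _ i).map ((singleFunctor A j).map f) := fun f x => by
    rw [Abelian.Ext.comp_hom, Abelian.Ext.mk₀_hom, ShiftedHom.comp_mk₀, Category.assoc, Category.assoc]
    exact congrArg (x.hom ≫ ·) (e.hom.naturality f)
  let L : Abelian.Ext.{w'} T N k →ₗ[R] KLinDR.HTρ T ((HomologicalComplex.single A (ComplexShape.up ℤ) j).obj N)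
      ((endMap (HomologicalComplex.single A (ComplexShape.up ℤ) j) N).comp μ) i :=
    { toFun := Φ
      map_add' := fun x y => by
        show (x + y).hom ≫ e.hom.app N = x.hom ≫ e.hom.app N + y.hom ≫ e.hom.app N
        rw [Abelian.Ext.add_hom, Preadditive.add_comp]
      map_smul' := fun r x => by
        show (r • x).hom ≫ e.hom.app N =
          (x.hom ≫ e.hom.app N) ≫ (shiftFunctor _ i).map ((singleFunctor A j).map (μ r))
        rw [hμ, hnat] }
  refine Module.Finite.of_surjective L fun z => ?_
  refine ⟨Abelian.Ext.homEquiv.symm (KLinDR.HTρ.toHT z ≫ e.inv.app N), ?_⟩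
  show Abelian.Ext.homEquiv (Abelian.Ext.homEquiv.symm (KLinDR.HTρ.toHT z ≫ e.inv.app N)) ≫ e.hom.app N = z
  rw [Equiv.apply_symm_apply, Category.assoc, Iso.inv_hom_id_app]
  exact Category.comp_id _

/-- An object placed above the degree contributes nothing. -/
theorem finite_single_of_lt (T N : A) (μ : R →+* End N) (i j : ℤ) (h : i < j) :
    Module.Finite R (KLinDR.HTρ T ((HomologicalComplex.single A (ComplexShape.up ℤ) j).obj N)
      ((endMap (HomologicalComplex.single A (ComplexShape.up ℤ) j) N).comp μ) i) := by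
  haveI : Subsingleton (KLinDR.HTρ T ((HomologicalComplex.single A (ComplexShape.up ℤ) j).obj N)
      ((endMap (HomologicalComplex.single A (ComplexShape.up ℤ) j) N).comp μ) i) := by
    refine (RlimCrit.hdu T i _).toEquiv.subsingleton_congr.1 ⟨fun x y => ?_⟩
    exact (TStructure.t.zero_of_isLE_of_isGE x i j h inferInstance inferInstance).trans
      (TStructure.t.zero_of_isLE_of_isGE y i j h inferInstance inferInstance).symm
  infer_instance

end Groth.Agent.HdRLib
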