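import Groth.Agent.HdRLib.Affine
import Groth.Agent.DeRhamLib.Poincare
import Mathlib.RingTheory.Kaehler.Polynomial

/-!
# The de Rham differential of an affine scheme, and the Poincare lemma for polynomial rings
-/

set_option autoImplicit false
set_option backward.isDefEq.respectTransparency false
set_option backward.isDefEq.respectTransparency.types false
set_option linter.style.haveILetI false

universe w u

open CategoryTheory CategoryTheory.Limits AlgebraicGeometry Opposite TopologicalSpace exteriorPower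

noncomputable section

namespace Groth.Agent.HdRLib

section Diff

variable (R A : Type u) [CommRing R] [CommRing A] [Algebra R A]
  (D : DeRhamSh.OmegaCx (Spec.map (CommRingCat.ofHom (algebraMap R A))))

/-- The differential of sections carried to forms. -/
def dAdd (p : ℕ) : ↥(⋀[A]^p (Ω[A⁄R])) →+ ↥(⋀[A]^(p + 1) (Ω[A⁄R])) :=
  (formEquiv R A D (p + 1)).symm.toAddMonoidHom.comp
    (((secCx D ⊤).d p (p + 1)).hom.comp (formEquiv R A D p).toAddMonoidHom)

theorem dAdd_gen (p : ℕ) (b₀ : A) (b : Fin p → A) :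
    dAdd R A D p (DeRham.gen (KaehlerDifferential.D R A) p b₀ b) =
      ιMulti A (p + 1) (Fin.cons (KaehlerDifferential.D R A b₀) fun i => KaehlerDifferential.D R A (b i)) := by
  show (formEquiv R A D (p + 1)).symm ((secCx D ⊤).d p (p + 1) (formEquiv R A D p _)) = _
  rw [AddEquiv.symm_apply_eq, formEquiv_gen]
  refine (D.rule p ⟨⊤, isAffineOpen_top _⟩ (OmAff.toΓ A b₀) fun i => OmAff.toΓ A (b i)).trans ?_
  have e : ιMulti A (p + 1) (Fin.cons (KaehlerDifferential.D R A b₀) fun i => KaehlerDifferential.D R A (b i)) =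
      DeRham.gen (KaehlerDifferential.D R A) (p + 1) 1 (Fin.cons b₀ b) := by
    rw [DeRham.gen, one_smul]
    congr 1
    funext i
    refine Fin.cases ?_ (fun j => ?_) i <;> simp
  rw [e, formEquiv_gen, map_one, one_smul]
  congr
  funext i
  refine Fin.cases ?_ (fun j => ?_) i <;> simp

theorem dAdd_smul (p : ℕ) (r : R) (x : ↥(⋀[A]^p (Ω[A⁄R]))) : dAdd R A D p (r • x) = r • dAdd R A D p x := by
  induction x using DeRhamLib.gen_induction with
  | h0 => rw [smul_zero, map_zero, smul_zero]
  | hadd x y hx hy => rw [smul_add, map_add, hx, hy, map_add, smul_add]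
  | hgen b₀ b =>
    rw [show r • DeRham.gen (KaehlerDifferential.D R A) p b₀ b = DeRham.gen (KaehlerDifferential.D R A) p (r • b₀) b from
      (smul_assoc r b₀ _).symm, dAdd_gen, dAdd_gen, Derivation.map_smul]
    rw [← algebraMap_smul A r (KaehlerDifferential.D R A b₀)]
    show (ιMulti A (p + 1) (M := Ω[A⁄R])).curryLeft (_ • _) _ = _
    rw [map_smul, AlternatingMap.smul_apply, algebraMap_smul]
    rfl

/-- The de Rham differential of a ring read off a de Rham complex of its spectrum. -/
def dRing (p : ℕ) : ↥(⋀[A]^p (Ω[A⁄R])) →ₗ[R] ↥(⋀[A]^(p + 1) (Ω[A⁄R])) :=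
  { dAdd R A D p with map_smul' := fun r x => dAdd_smul R A D p r x }

theorem isDiff_dRing : DeRham.IsDiff (KaehlerDifferential.D R A) (dRing R A D) :=
  DeRhamLib.isDiff_of_isRule (fun p b₀ b => dAdd_gen R A D p b₀ b)

/-- Negative degrees vanish. -/
theorem subsingleton_HdR_neg
    [HasDerivedCategory.{w} (Sheaf (Opens.grothendieckTopology ↥(Spec (CommRingCat.of A))) AddCommGrpCat.{u})]
    (n : ℤ) (hn : n < 0) : Subsingleton (DeRhamSh.HdR D n) :=
  subsingleton_HDU_sections_neg ⊤ D.K (subsingleton_HU_term D (isAffineOpen_top _)) n hn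

end Diff

section Polynomial

open DeRhamLib.Poincare

variable {k : Type u} [Field k] [CharZero k] {σ : Type}

/-- The contraction against the Euler field. -/
def euler [Fintype σ] : Module.Dual (MvPolynomial σ k) (Ω[MvPolynomial σ k⁄k]) :=
  ∑ i, LinearMap.mulLeft (MvPolynomial σ k) (MvPolynomial.X i : MvPolynomial σ k) ∘ₗ (KaehlerDifferential.mvPolynomialBasis k σ).coord i

theorem coeff_euler [Fintype σ] (f : MvPolynomial σ k) (m : σ →₀ ℕ) :
    MvPolynomial.coeff m (euler (KaehlerDifferential.D k (MvPolynomial σ k) f)) =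
      (m.degree : k) * MvPolynomial.coeff m f := by
  classical
  rw [show euler (KaehlerDifferential.D k (MvPolynomial σ k) f) = ∑ i, MvPolynomial.X i * MvPolynomial.pderiv i f by
    simp [euler]]
  rw [MvPolynomial.coeff_sum, Finsupp.degree_eq_sum, Nat.cast_sum, Finset.sum_mul]
  refine Finset.sum_congr rfl fun i _ => ?_
  rw [MvPolynomial.coeff_X_mul']
  split_ifs with h
  · have h1 : Finsupp.single i 1 ≤ m := by
      simpa [Finsupp.single_le_iff, Nat.one_le_iff_ne_zero] using h
    rw [MvPolynomial.coeff_pderiv, tsub_add_cancel_of_le h1, mul_comm]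
    congr 1
    rw [← Nat.cast_succ]
    congr 1
    have h2 : 1 ≤ m i := by simpa using h1 i
    simp only [Finsupp.coe_tsub, Pi.sub_apply, Finsupp.single_eq_same]
    omega
  · simp [Finsupp.notMem_support_iff.1 h]

theorem euler_D_X [Fintype σ] (i : σ) :
    euler (KaehlerDifferential.D k (MvPolynomial σ k) (MvPolynomial.X i)) = MvPolynomial.X i := by
  classical
  simp [euler, Finsupp.single_apply]

variable (d : ∀ p : ℕ, ↥(⋀[MvPolynomial σ k]^p (Ω[MvPolynomial σ k⁄k])) →ₗ[k]
      ↥(⋀[MvPolynomial σ k]^(p + 1) (Ω[MvPolynomial σ k⁄k])))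
  (hd : DeRham.IsDiff (KaehlerDifferential.D k (MvPolynomial σ k)) d)

include hd in
theorem poincare_polynomial [Finite σ] (p : ℕ) : DeRham.cocycles d (p + 1) ≤ DeRham.coboundaries d (p + 1) := by
  classical
  haveI := Fintype.ofFinite σ
  letI : LinearOrder σ := LinearOrder.lift' (Fintype.equivFin σ) (Fintype.equivFin σ).injective
  let δ := KaehlerDifferential.D k (MvPolynomial σ k)
  have hgen := KaehlerDifferential.span_range_derivation k (MvPolynomial σ k)
  let bM := KaehlerDifferential.mvPolynomialBasis k σ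
  let φ : Module.Dual (MvPolynomial σ k) (Ω[MvPolynomial σ k⁄k]) := euler
  let L : ∀ q, ↥(⋀[MvPolynomial σ k]^(q + 1) (Ω[MvPolynomial σ k⁄k])) →ₗ[k]
      ↥(⋀[MvPolynomial σ k]^(q + 1) (Ω[MvPolynomial σ k⁄k])) := fun q =>
    (d q).comp ((contract φ q).restrictScalars k) + ((contract φ (q + 1)).restrictScalars k).comp (d (q + 1))
  have hL : ∀ q x s, ((bM.exteriorPower (q + 1)).repr (L q x)) s =
      φ (δ ((bM.exteriorPower (q + 1)).repr x s)) + (q + 1 : ℕ) • (bM.exteriorPower (q + 1)).repr x s := by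
    intro q x s
    have hx : L q x = ∑ t, (φ (δ ((bM.exteriorPower (q + 1)).repr x t)) +
        (q + 1 : ℕ) • (bM.exteriorPower (q + 1)).repr x t) • bM.exteriorPower (q + 1) t := by
      conv_lhs => rw [← (bM.exteriorPower (q + 1)).sum_repr x, map_sum]
      refine Finset.sum_congr rfl fun t _ => ?_
      rw [exteriorPower.basis_apply, ιMulti_family]
      rw [show (bM ∘ ⇑(Set.powersetCard.ofFinEmbEquiv.symm t)) =
          fun i => δ (MvPolynomial.X (Set.powersetCard.ofFinEmbEquiv.symm t i)) from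
        funext fun i => KaehlerDifferential.mvPolynomialBasis_apply _ _ _]
      exact lie_smul_ιMulti hgen hd.1 φ q _ (fun i => euler_D_X _) _
    rw [hx, (bM.exteriorPower (q + 1)).repr_sum_self]
  intro ω hω
  let T : MvPolynomial σ k → MvPolynomial σ k := fun f => ∑ m ∈ f.support,
    MvPolynomial.monomial m (MvPolynomial.coeff m f / ((m.degree + (p + 1) : ℕ) : k))
  have hT : ∀ f m, MvPolynomial.coeff m (T f) = MvPolynomial.coeff m f / ((m.degree + (p + 1) : ℕ) : k) := by
    intro f m
    simp only [T, MvPolynomial.coeff_sum, MvPolynomial.coeff_monomial]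
    rw [Finset.sum_ite_eq']
    split_ifs with h
    · rfl
    · rw [MvPolynomial.notMem_support_iff.1 h, zero_div]
  let η := ∑ t, T ((bM.exteriorPower (p + 1)).repr ω t) • bM.exteriorPower (p + 1) t
  have hη : L p η = ω := by
    refine (bM.exteriorPower (p + 1)).repr.injective (Finsupp.ext fun s => ?_)
    rw [hL, (bM.exteriorPower (p + 1)).repr_sum_self]
    refine MvPolynomial.ext _ _ fun m => ?_
    rw [MvPolynomial.coeff_add, coeff_euler, MvPolynomial.coeff_smul, nsmul_eq_mul, ← add_mul, ← Nat.cast_add, hT,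
      mul_div_cancel₀ _ (Nat.cast_ne_zero.2 (by omega))]
  have hdd : ∀ q x, d (q + 1) (d q x) = 0 := fun q x => LinearMap.congr_fun (hd.2 q) x
  have hdη : d (p + 1) η = 0 := by
    have h1 : L (p + 1) (d (p + 1) η) = 0 := by
      have h2 : d (p + 1) (L p η) = L (p + 1) (d (p + 1) η) := by
        simp only [L, LinearMap.add_apply, LinearMap.comp_apply, LinearMap.restrictScalars_apply, map_add, hdd, zero_add,
          map_zero, add_zero]
      rw [← h2, hη]
      exact hω
    refine (bM.exteriorPower (p + 2)).repr.injective (Finsupp.ext fun s => MvPolynomial.ext _ _ fun m => ?_)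
    have h2 := congrArg (fun y => MvPolynomial.coeff m ((bM.exteriorPower (p + 2)).repr y s)) h1
    rw [hL, MvPolynomial.coeff_add, coeff_euler, MvPolynomial.coeff_smul, nsmul_eq_mul, ← add_mul, ← Nat.cast_add,
      map_zero, Finsupp.zero_apply, MvPolynomial.coeff_zero] at h2
    rw [map_zero, Finsupp.zero_apply, MvPolynomial.coeff_zero]
    exact (mul_eq_zero.1 h2).resolve_left (Nat.cast_ne_zero.2 (by omega))
  refine ⟨contract φ p η, ?_⟩
  have h3 : L p η = d p (contract φ p η) := by
    simp only [L, LinearMap.add_apply, LinearMap.comp_apply, LinearMap.restrictScalars_apply, hdη, map_zero, add_zero]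
  rw [← h3, hη]

include hd in
theorem subsingleton_H_succ [Finite σ] (p : ℕ) : Subsingleton ↑(DeRham.H hd (p + 1)) := by
  refine ModuleCat.subsingleton_of_isZero (HomologicalComplex.ExactAt.isZero_homology ?_)
  rw [HomologicalComplex.exactAt_iff' _ p (p + 1) (p + 2) (by simp) (by simp [add_assoc]),
    ShortComplex.moduleCat_exact_iff]
  have e : ∀ i, (DeRham.cx hd).d i (i + 1) = ModuleCat.ofHom (d i) := fun i =>
    CochainComplex.of_d (fun p => ModuleCat.of k ↥(⋀[MvPolynomial σ k]^p (Ω[MvPolynomial σ k⁄k])))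
      (fun p => ModuleCat.ofHom (d p)) i
  intro x hx
  obtain ⟨y, hy⟩ := poincare_polynomial d hd p (show x ∈ DeRham.cocycles d (p + 1) from by
    have : ((DeRham.cx hd).d (p + 1) (p + 1 + 1)).hom x = 0 := hx
    rwa [e] at this)
  refine ⟨y, ?_⟩
  show ((DeRham.cx hd).d p (p + 1)).hom y = x
  rw [e]
  exact hy

include hd in
theorem cocycles_zero_eq [Finite σ] :
    DeRham.cocycles d 0 = LinearMap.range ((exteriorPower.zeroEquiv (MvPolynomial σ k)
      (Ω[MvPolynomial σ k⁄k])).symm.toLinearMap.restrictScalars k ∘ₗ Algebra.linearMap k (MvPolynomial σ k)) := by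
  classical
  haveI := Fintype.ofFinite σ
  have hgen : ∀ f, (exteriorPower.zeroEquiv (MvPolynomial σ k) (Ω[MvPolynomial σ k⁄k])).symm f =
      DeRham.gen (KaehlerDifferential.D k (MvPolynomial σ k)) 0 f Fin.elim0 := fun f => by
    rw [LinearEquiv.symm_apply_eq, DeRham.gen, map_smul, exteriorPower.zeroEquiv_ιMulti, smul_eq_mul, mul_one]
  refine le_antisymm (fun x hx => ?_) ?_
  · obtain ⟨f, rfl⟩ := (exteriorPower.zeroEquiv (MvPolynomial σ k) (Ω[MvPolynomial σ k⁄k])).symm.surjective x
    have h1 : d 0 _ = 0 := hx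
    rw [hgen, hd.1] at h1
    have h2 := congrArg (exteriorPower.oneEquiv (MvPolynomial σ k) (Ω[MvPolynomial σ k⁄k])) h1
    rw [map_zero, exteriorPower.oneEquiv_ιMulti, Fin.cons_zero] at h2
    refine ⟨MvPolynomial.coeff 0 f, ?_⟩
    simp only [LinearMap.comp_apply, LinearMap.restrictScalars_apply, Algebra.linearMap_apply, LinearEquiv.coe_coe]
    congr 1
    refine MvPolynomial.ext _ _ fun m => ?_
    rw [MvPolynomial.algebraMap_eq, MvPolynomial.coeff_C]
    split_ifs with h
    · rw [h]
    · have h3 := coeff_euler f m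
      rw [h2, map_zero, MvPolynomial.coeff_zero, zero_eq_mul] at h3
      refine ((h3.resolve_left (Nat.cast_ne_zero.2 ?_))).symm
      intro h4
      exact h ((Finsupp.degree_eq_zero_iff m).1 h4).symm
  · rintro x ⟨c, rfl⟩
    show d 0 ((exteriorPower.zeroEquiv _ _).symm (algebraMap k (MvPolynomial σ k) c)) = 0
    rw [hgen, hd.1, Derivation.map_algebraMap]
    exact AlternatingMap.map_coord_zero _ 0 (by simp)

include hd in
theorem nonempty_H_zero_equiv [Finite σ] : Nonempty (↑(DeRham.H hd 0) ≃+ k) := by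
  let g := ((exteriorPower.zeroEquiv (MvPolynomial σ k) (Ω[MvPolynomial σ k⁄k])).symm.toLinearMap.restrictScalars k ∘ₗ
    Algebra.linearMap k (MvPolynomial σ k))
  have hg : Function.Injective g :=
    (exteriorPower.zeroEquiv (MvPolynomial σ k) (Ω[MvPolynomial σ k⁄k])).symm.injective.comp
      (algebraMap k (MvPolynomial σ k)).injective
  let e₁ : k ≃ₗ[k] ↥(DeRham.cocycles d 0) :=
    (LinearEquiv.ofInjective g hg).trans (LinearEquiv.ofEq _ _ (cocycles_zero_eq d hd).symm)
  have hd01 : (DeRham.cx hd).d 0 1 = ModuleCat.ofHom (d 0) :=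
    CochainComplex.of_d (fun p => ModuleCat.of k ↥(⋀[MvPolynomial σ k]^p (Ω[MvPolynomial σ k⁄k])))
      (fun p => ModuleCat.ofHom (d p)) 0
  let e₂ := ((DeRham.cx hd).isoHomologyπ₀.symm ≪≫ ((DeRham.cx hd).sc 0).moduleCatCyclesIso).toLinearEquiv
  have h : LinearMap.ker ((DeRham.cx hd).sc 0).g.hom = DeRham.cocycles d 0 := by
    have : (ComplexShape.up ℕ).next 0 = 1 := by simp
    show LinearMap.ker ((DeRham.cx hd).dFrom 0).hom = _
    rw [(DeRham.cx hd).dFrom_eq (show (ComplexShape.up ℕ).Rel 0 1 by simp), hd01]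
    ext x
    simp only [DeRham.cocycles, LinearMap.mem_ker, ModuleCat.hom_comp, LinearMap.comp_apply]
    exact map_eq_zero_iff _ ((ModuleCat.mono_iff_injective _).1 inferInstance)
  exact ⟨((e₂.trans (LinearEquiv.ofEq _ _ h)).trans e₁.symm).toAddEquiv⟩

end Polynomial

end Groth.Agent.HdRLib
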