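import Groth.Prelude.Def_KLinDR
import Groth.Prelude.Def_CohB1
import Groth.Agent.HdRLib.Concentrated
import Groth.Agent.CohBase.Basic
import Groth.Agent.S15530
import Groth.Agent.S15531

/-!
# De Rham cohomology of projective space
-/

set_option autoImplicit false
set_option linter.style.haveILetI false
set_option backward.isDefEq.respectTransparency false
set_option backward.isDefEq.respectTransparency.types false

universe u

open CategoryTheory AlgebraicGeometry TopologicalSpace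

noncomputable section

namespace Groth.Agent.HdRLib.ProjSp

variable {X : Scheme.{u}} [HasDerivedCategory.{u} (Sheaf (Opens.grothendieckTopology X) AddCommGrpCat.{u})]

/-- The integers, in the universe of the scheme, acting on an object. -/
def intEnd {C : Type*} [Category C] [Preadditive C] (N : C) : ULift.{u} ℤ →+* End N :=
  (Int.castRingHom (End N)).comp ULift.ringEquiv.toRingHom

/-- The additive equivalence of a linear one, for any module structures. -/
def toAdd {R M N : Type*} [Semiring R] [AddCommMonoid M] [AddCommMonoid N] {_ : Module R M} {_ : Module R N}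
    (e : M ≃ₗ[R] N) : M ≃+ N :=
  e.toAddEquiv

theorem nonempty_ext_single (T N : (Sheaf (Opens.grothendieckTopology X) AddCommGrpCat.{u})) (i j : ℤ) (k : ℕ) (hk : i = j + k)
    {R : Type u} [CommRing R] (ν : R →+* End ((HomologicalComplex.single (Sheaf (Opens.grothendieckTopology X) AddCommGrpCat.{u}) (ComplexShape.up ℤ) j).obj N)) :
    Nonempty (Abelian.Ext.{u} T N k ≃+
      KLinDR.HTρ T ((HomologicalComplex.single (Sheaf (Opens.grothendieckTopology X) AddCommGrpCat.{u}) (ComplexShape.up ℤ) j).obj N) ν i) := by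
  obtain ⟨e⟩ := nonempty_single_equiv T N (intEnd.{u} N) i j k hk fun r x => by
    show r.down • x = x.comp (Abelian.Ext.mk₀ ((r.down : ℤ) : End N)) (add_zero k)
    let g : (N ⟶ N) →+ Abelian.Ext.{u} T N k :=
      AddMonoidHom.mk' (fun f => x.comp (Abelian.Ext.mk₀ f) (add_zero k)) fun a b => by
        rw [Abelian.Ext.mk₀_add, Abelian.Ext.comp_add]
    have : g (r.down • 𝟙 N) = r.down • x := by
      rw [map_zsmul]
      exact congrArg (r.down • ·) (Abelian.Ext.comp_mk₀_id x)
    rw [← this]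
    show x.comp (Abelian.Ext.mk₀ (r.down • 𝟙 N)) (add_zero k) = _
    congr 2
    exact zsmul_one (R := End N) r.down
  exact ⟨(toAdd e).trans (KLinDR.HTρ.toHT.trans KLinDR.HTρ.toHT.symm)⟩

variable {A : Type u} [CommRing A] {n : ℕ} [QuasiSeparated (CohB1.ProjSpace.toSpec n A)]
  (D : DeRhamSh.OmegaCx (CohB1.ProjSpace.toSpec n A))

/-- The term in degree `p` of the extended complex. -/
abbrev termIso (p : ℕ) : D.KZ.X (p : ℤ) ≅ Coh.toAb (D.term p) :=
  D.K.extendXIso ComplexShape.embeddingUpNat (ComplexShape.embeddingUpNat_f p) ≪≫ D.iso p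

/-- Cohomology of a term as extensions of the term of the extended complex. -/
theorem nonempty_ext_term (p k : ℕ) :
    Nonempty (Coh.HH (CohB1.ProjSpace n A) (D.term p) k ≃+
      Abelian.Ext.{u} (CohCx.freeSheaf (Opens.grothendieckTopology (CohB1.ProjSpace n A)) ⊤) (D.KZ.X (p : ℤ)) k) := by
  let T := CohCx.freeSheaf (Opens.grothendieckTopology (CohB1.ProjSpace n A)) ⊤
  let e : Abelian.Ext.{u} T (Coh.toAb (D.term p)) k ≃+ Abelian.Ext.{u} T (D.KZ.X (p : ℤ)) k :=
    { toFun := fun x => x.comp (Abelian.Ext.mk₀ (termIso D p).inv) (add_zero k)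
      invFun := fun x => x.comp (Abelian.Ext.mk₀ (termIso D p).hom) (add_zero k)
      left_inv := fun x => by
        simp only [Abelian.Ext.comp_assoc_of_third_deg_zero, Abelian.Ext.mk₀_comp_mk₀, Iso.inv_hom_id,
          Abelian.Ext.comp_mk₀_id]
      right_inv := fun x => by
        simp only [Abelian.Ext.comp_assoc_of_third_deg_zero, Abelian.Ext.mk₀_comp_mk₀, Iso.hom_inv_id,
          Abelian.Ext.comp_mk₀_id]
      map_add' := fun x y => Abelian.Ext.add_comp _ _ _ _ }
  exact ⟨(Groth.Agent.CohBase.HEquiv (X := (CohB1.ProjSpace n A).toTopCat) (Coh.toAb (D.term p)) k).trans e⟩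

variable [HasDerivedCategory.{u} (Sheaf (Opens.grothendieckTopology (CohB1.ProjSpace n A)) AddCommGrpCat.{u})]

theorem KZ_isStrictlyGE : D.KZ.IsStrictlyGE 0 :=
  (CochainComplex.isStrictlyGE_iff _ _).2 fun m hm =>
    D.K.isZero_extend_X ComplexShape.embeddingUpNat m (fun j hj => by simp at hj; omega)

/-- A term contributes only in twice its degree. -/
theorem subsingleton_single (hn : 1 ≤ n) {R : Type u} [CommRing R] (j : ℤ) (hj : 0 ≤ j) (m : ℤ)
    (h : m ≠ 2 * j ∨ (n : ℤ) < j) (ρ : R →+* End D.KZ) :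
    Subsingleton (KLinDR.HTρ (CohCx.freeSheaf (Opens.grothendieckTopology (CohB1.ProjSpace n A)) ⊤)
      ((HomologicalComplex.single _ (ComplexShape.up ℤ) j).obj (D.KZ.X j)) (singleρ ρ j) m) := by
  by_cases hmj : m < j
  · exact subsingleton_HTρ_single_of_lt _ _ _ m hmj
  obtain ⟨p, rfl⟩ := Int.eq_ofNat_of_zero_le hj
  obtain ⟨k, hk⟩ := Int.eq_ofNat_of_zero_le (show 0 ≤ m - (p : ℤ) by omega)
  obtain ⟨e⟩ := nonempty_ext_single (CohCx.freeSheaf (Opens.grothendieckTopology (CohB1.ProjSpace n A)) ⊤)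
    (D.KZ.X (p : ℤ)) m (p : ℤ) k (by omega) (singleρ ρ (p : ℤ))
  obtain ⟨e'⟩ := nonempty_ext_term D p k
  haveI := Groth.Agent.S15530.result A n hn p (D.term p) (D.isExtPow p) k (by omega)
  exact (e'.trans e).symm.toEquiv.subsingleton

/-- The hypercohomology of the complex in twice the degree of a term is that of the term. -/
theorem nonempty_equiv_term (hn : 1 ≤ n) {R : Type u} [CommRing R] (ρ : R →+* End D.KZ) (i : ℕ) :
    Nonempty (KLinDR.HTρ (CohCx.freeSheaf (Opens.grothendieckTopology (CohB1.ProjSpace n A)) ⊤) D.KZ ρ (2 * (i : ℤ))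
      ≃ₗ[R] KLinDR.HTρ (CohCx.freeSheaf (Opens.grothendieckTopology (CohB1.ProjSpace n A)) ⊤)
        ((HomologicalComplex.single _ (ComplexShape.up ℤ) (i : ℤ)).obj (D.KZ.X (i : ℤ))) (singleρ ρ (i : ℤ))
        (2 * (i : ℤ))) := by
  haveI := KZ_isStrictlyGE D
  exact nonempty_equiv_single _ (2 * (i : ℤ)) (i : ℤ) i 0 D.KZ ρ inferInstance (by omega)
    fun j m hj hm => subsingleton_single D hn j hj m (Or.inl (by omega)) ρ

theorem subsingleton_hdR (hn : 1 ≤ n) (m : ℤ) (hm : ∀ i : ℕ, i ≤ n → m ≠ 2 * (i : ℤ)) :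
    Subsingleton (DeRhamSh.HdR D m) := by
  haveI := KZ_isStrictlyGE D
  haveI := subsingleton_of_singles (CohCx.freeSheaf (Opens.grothendieckTopology (CohB1.ProjSpace n A)) ⊤) m
    (m + 1).toNat 0 D.KZ (intEnd.{u} D.KZ) inferInstance (by omega) fun j hj hjm => by
      refine subsingleton_single D hn j hj m ?_ _
      by_contra hc
      push Not at hc
      obtain ⟨p, rfl⟩ := Int.eq_ofNat_of_zero_le hj
      exact hm p (by omega) hc.1
  exact (KLinDR.HTρ.toHT (K := D.KZ) (ρ := intEnd.{u} D.KZ) (n := m)).symm.toEquiv.subsingleton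

theorem nonempty_hdR_addEquiv (hn : 1 ≤ n) (i : ℕ) (hi : i ≤ n) :
    Nonempty (DeRhamSh.HdR D (2 * (i : ℤ)) ≃+ A) := by
  obtain ⟨e₁⟩ := nonempty_equiv_term D hn (intEnd.{u} D.KZ) i
  obtain ⟨e₂⟩ := nonempty_ext_single (CohCx.freeSheaf (Opens.grothendieckTopology (CohB1.ProjSpace n A)) ⊤)
    (D.KZ.X (i : ℤ)) (2 * (i : ℤ)) (i : ℤ) i (by omega) (singleρ (intEnd.{u} D.KZ) (i : ℤ))
  obtain ⟨e₃⟩ := nonempty_ext_term D i i
  obtain ⟨e₄⟩ := Groth.Agent.S15531.result A n hn i hi (D.term i) (D.isExtPow i)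
  exact ⟨KLinDR.HTρ.toHT.symm.trans ((toAdd e₁).trans ((e₂.symm.trans e₃.symm).trans (toAdd e₄)))⟩

theorem nonempty_hdR_linearEquiv (hn : 1 ≤ n)
    (h : KLinDR.TermwiseLinear (Coh.toGlobal (CohB1.ProjSpace.toSpec n A)) D.K D.term D.iso)
    (i : ℕ) (hi : i ≤ n) :
    Nonempty (KLinDR.HdR (Coh.toGlobal (CohB1.ProjSpace.toSpec n A)) D h (2 * (i : ℤ)) ≃ₗ[A] A) := by
  let ρ : A →+* End D.KZ := KLinDR.scalar h
  obtain ⟨e₁⟩ := nonempty_equiv_term D hn ρ i
  obtain ⟨e₄⟩ := Groth.Agent.S15531.result A n hn i hi (D.term i) (D.isExtPow i)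
  let T := CohCx.freeSheaf (Opens.grothendieckTopology (CohB1.ProjSpace n A)) (⊤ : (CohB1.ProjSpace n A).Opens)
  let μ : A →+* End (Coh.toAb (D.term i)) :=
    { toFun := fun a => Coh.smulAb (D.term i) (Coh.toGlobal (CohB1.ProjSpace.toSpec n A) a)
      map_one' := by rw [map_one]; exact Coh.smulAb_one _
      map_mul' := fun a b => by rw [map_mul]; exact Coh.smulAb_mul _ _ _
      map_zero' := by rw [map_zero]; exact Coh.smulAb_zero _
      map_add' := fun a b => by rw [map_add]; exact Coh.smulAb_add _ _ _ }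
  letI : Module A (Abelian.Ext.{u} T (Coh.toAb (D.term i)) i) :=
    { smul := fun a x => x.comp (Abelian.Ext.mk₀ (μ a)) (add_zero i)
      one_smul := fun x => by
        show x.comp (Abelian.Ext.mk₀ (μ 1)) (add_zero i) = x
        rw [map_one]; exact Abelian.Ext.comp_mk₀_id x
      mul_smul := fun a b x => by
        show x.comp (Abelian.Ext.mk₀ (μ (a * b))) (add_zero i) =
          (x.comp (Abelian.Ext.mk₀ (μ b)) (add_zero i)).comp (Abelian.Ext.mk₀ (μ a)) (add_zero i)
        rw [map_mul, Abelian.Ext.comp_assoc_of_third_deg_zero, Abelian.Ext.mk₀_comp_mk₀]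
        rfl
      smul_zero := fun a => by
        show (0 : Abelian.Ext.{u} T (Coh.toAb (D.term i)) i).comp _ (add_zero i) = 0
        exact Abelian.Ext.zero_comp _ _ _ _ _
      smul_add := fun a x y => Abelian.Ext.add_comp _ _ _ _
      add_smul := fun a b x => by
        show x.comp (Abelian.Ext.mk₀ (μ (a + b))) (add_zero i) =
          x.comp (Abelian.Ext.mk₀ (μ a)) (add_zero i) + x.comp (Abelian.Ext.mk₀ (μ b)) (add_zero i)
        rw [map_add, Abelian.Ext.mk₀_add, Abelian.Ext.comp_add]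
      zero_smul := fun x => by
        show x.comp (Abelian.Ext.mk₀ (μ 0)) (add_zero i) = 0
        rw [map_zero, Abelian.Ext.mk₀_zero, Abelian.Ext.comp_zero] }
  obtain ⟨e₂⟩ := nonempty_single_equiv T (Coh.toAb (D.term i)) μ (2 * (i : ℤ)) (i : ℤ) i (by omega) (fun _ _ => rfl)
  let ev := Groth.Agent.CohBase.HEquiv (X := (CohB1.ProjSpace n A).toTopCat) (Coh.toAb (D.term i)) i
  let L : Coh.HH (CohB1.ProjSpace n A) (D.term i) i ≃ₗ[A] Abelian.Ext.{u} T (Coh.toAb (D.term i)) i :=
    { ev with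
      map_smul' := fun a x =>
        Groth.Agent.CohBase.HEquiv_map (Coh.smulAb (D.term i) (Coh.toGlobal (CohB1.ProjSpace.toSpec n A) a)) i x }
  let φ : (HomologicalComplex.single _ (ComplexShape.up ℤ) (i : ℤ)).obj (Coh.toAb (D.term i)) ⟶
      (HomologicalComplex.single _ (ComplexShape.up ℤ) (i : ℤ)).obj (D.KZ.X (i : ℤ)) :=
    (HomologicalComplex.single _ (ComplexShape.up ℤ) (i : ℤ)).map (termIso D i).inv
  have hφ : KLinDR.Commutes ((endMap (HomologicalComplex.single _ (ComplexShape.up ℤ) (i : ℤ)) _).comp μ)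
      (singleρ ρ (i : ℤ)) φ := fun a => by
    simp only [RingHom.comp_apply, endMap_apply, atDeg_apply, φ, ρ, ← Functor.map_comp]
    congr 1
    erw [KLinDR.scalar_f h a i]
    simp [termIso, KLinDR.scalarEnd, μ]
  exact ⟨e₁.trans ((LinearEquiv.ofBijective (KLinDR.HTρmap T φ hφ (2 * (i : ℤ))) (HTρmap_bijective T φ hφ _)).symm.trans
    (e₂.symm.trans (L.symm.trans e₄)))⟩

end Groth.Agent.HdRLib.ProjSp
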