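import Groth.Agent.HdRLib.Affine
import Groth.Agent.SeesawVB.TrivFibres
import Groth.Agent.DimFormulaLib.Scheme

/-!
# Forms above the dimension vanish
-/

set_option autoImplicit false
set_option backward.isDefEq.respectTransparency false
set_option backward.isDefEq.respectTransparency.types false
set_option linter.style.haveILetI false

universe w u

open CategoryTheory CategoryTheory.Limits AlgebraicGeometry Opposite TopologicalSpace exteriorPower
open Groth.Agent.SeesawVB Groth.Agent.PullbackMod Groth.Agent.DegDevLib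

noncomputable section

namespace Groth.Agent.HdRLib

theorem subsingleton_exteriorPower_of_fin {R M : Type u} [CommRing R] [AddCommGroup M] [Module R M] {m p : ℕ}
    (b : Module.Basis (Fin m) R M) (hp : m < p) : Subsingleton ↥(⋀[R]^p M) := by
  haveI : IsEmpty (Set.powersetCard (Fin m) p) := by
    refine ⟨fun s => ?_⟩
    have h := s.1.card_le_univ
    rw [show s.1.card = p from s.2, Fintype.card_fin] at h
    omega
  exact (b.exteriorPower p).repr.toEquiv.subsingleton

variable {k : Type u} [Field k] {X : Scheme.{u}} (f : X ⟶ Spec (CommRingCat.of k)) [QuasiSeparated f] [Smooth f]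
  {n : ℕ}

theorem fibreDimAt_le (hn : topologicalKrullDim ↥X ≤ n) (x : X) : FlatMor.fibreDimAt f x ≤ (n : WithBot ℕ∞) := by
  rw [← DimFormulaLib.localDim_eq_fibreDimAt_of_subsingleton f x]
  exact ((iInf_le _ ⟨⊤, trivial⟩).trans
    (Topology.IsEmbedding.subtypeVal.isInducing.topologicalKrullDim_le)).trans hn

theorem exists_frame_omega_le (hn : topologicalKrullDim ↥X ≤ n) (x : X) :
    ∃ (U : X.Opens) (m : ℕ) (s : Fin m → Γ(Omega.sheaf f, U)), x ∈ U ∧ m ≤ n ∧ IsFrame U s := by
  haveI := (isQCoh_and_isFP_of_isFinLocFree _ (InfLiftLib.isFinLocFree_omega f)).1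
  obtain ⟨U, m, hxU, ⟨i⟩, hdim⟩ :=
    EtAlgEasy.OmegaSmooth.exists_freeMod_omega f (OmegaUnivLib.isUniversal_dOmega f) x
  have hm : m ≤ n := by
    have h := fibreDimAt_le f hn x
    rw [hdim] at h
    exact_mod_cast h
  obtain ⟨V, j, s, hxV, hs⟩ := exists_frame_at (InfLiftLib.isFinLocFree_omega f) x
  obtain rfl : j = m := freeAt_unique _ (freeAt_of_frame hs hxV) (freeAt_of_restrict_iso _ i hxU)
  exact ⟨V, j, s, hxV, hm, hs⟩

theorem subsingleton_sections_term (hn : topologicalKrullDim ↥X ≤ n) (D : DeRhamSh.OmegaCx f) {p : ℕ}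
    (hp : n < p) (V : X.Opens) : Subsingleton Γ(D.term p, V) := by
  refine subsingleton_of_forall_eq 0 fun z => ?_
  have h : ∀ x : V, ∃ W : X.Opens, x.1 ∈ W ∧ W ≤ V ∧ Subsingleton Γ(D.term p, W) := fun x => by
    obtain ⟨U, m, s, hxU, hm, hs⟩ := exists_frame_omega_le f hn x.1
    obtain ⟨_, ⟨W : X.Opens, hW, rfl⟩, hxW, hWUV⟩ :=
      X.isBasis_affineOpens.exists_subset_of_mem_open (a := x.1) (u := ↑(U ⊓ V)) ⟨hxU, x.2⟩ (U ⊓ V).2
    haveI := subsingleton_exteriorPower_of_fin (p := p)
      (hs.res (le_trans (show W ≤ U ⊓ V from hWUV) inf_le_left)).basis (lt_of_le_of_lt hm hp)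
    exact ⟨W, hxW, le_trans (show W ≤ U ⊓ V from hWUV) inf_le_right, (D.loc p ⟨W, hW⟩).toEquiv.subsingleton⟩
  choose W hxW hWV hsub using h
  exact TopCat.Sheaf.eq_of_locally_eq' (Coh.toAb (D.term p)) W V (fun x => homOfLE (hWV x))
    (fun x hx => Opens.mem_iSup.2 ⟨⟨x, hx⟩, hxW _⟩) z 0 (fun x => @Subsingleton.elim _ (hsub x) _ _)

theorem isZero_K (hn : topologicalKrullDim ↥X ≤ n) (D : DeRhamSh.OmegaCx f) {p : ℕ} (hp : n < p) :
    IsZero (D.K.X p) := by
  refine IsZero.of_iso ?_ (D.iso p)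
  rw [IsZero.iff_id_eq_zero]
  refine CategoryTheory.Sheaf.hom_ext (NatTrans.ext (funext fun V => AddCommGrpCat.ext fun z => ?_))
  exact @Subsingleton.elim _ (subsingleton_sections_term f hn D hp V.unop) _ _

/-- For an affine smooth scheme hypercohomology vanishes above the dimension. -/
theorem subsingleton_HdR_affine [IsAffine X] (hn : topologicalKrullDim ↥X ≤ n) (D : DeRhamSh.OmegaCx f)
    [HasDerivedCategory.{w} (Sheaf (Opens.grothendieckTopology ↥X) AddCommGrpCat.{u})]
    (p : ℕ) (hp : n < p) : Subsingleton (DeRhamSh.HdR D (p : ℤ)) := by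
  obtain ⟨e⟩ := nonempty_HdRU_sections D (isAffineOpen_top X) p
  have hz : IsZero ((secCx D ⊤).homology p) :=
    HomologicalComplex.ExactAt.isZero_homology (ShortComplex.exact_of_isZero_X₂ _
      ((SiteBase.evA _ _).map_isZero (isZero_K f hn D hp)))
  haveI := AddCommGrpCat.subsingleton_of_isZero hz
  exact e.toEquiv.subsingleton

end Groth.Agent.HdRLib
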