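import Groth.Agent.HdRLib.Vanish
import Groth.Agent.HdRLib.Devissage
import Groth.Agent.GrothVan.Main

/-!
# De Rham cohomology vanishes above dimension plus cohomological dimension
-/

set_option autoImplicit false
set_option backward.isDefEq.respectTransparency false
set_option backward.isDefEq.respectTransparency.types false
set_option linter.style.haveILetI false

universe w u

open CategoryTheory CategoryTheory.Limits AlgebraicGeometry Opposite TopologicalSpace DerivedCategory

noncomputable section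

namespace Groth.Agent.HdRLib

variable {k : Type u} [Field k] {X : Scheme.{u}} (f : X ⟶ Spec (CommRingCat.of k)) [QuasiSeparated f] [Smooth f]

theorem subsingleton_HdR_high {n : ℕ} (hn : topologicalKrullDim ↥X ≤ n) (r : ℕ)
    (hcd : ∀ (F : X.Modules), Coh.IsQCoh F → ∀ q : ℕ, r ≤ q → Subsingleton (Coh.HH X F q))
    (D : DeRhamSh.OmegaCx f)
    [HasDerivedCategory.{w} (Sheaf (Opens.grothendieckTopology ↥X) AddCommGrpCat.{u})]
    (i : ℤ) (hi : (n : ℤ) + r ≤ i) : Subsingleton (DeRhamSh.HdR D i) := by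
  haveI : D.KZ.IsStrictlyLE (n : ℤ) := (CochainComplex.isStrictlyLE_iff _ _).2 fun m hm => by
    obtain ⟨p, rfl⟩ := Int.eq_ofNat_of_zero_le (show 0 ≤ m by omega)
    exact (isZero_K f hn D (p := p) (by omega)).of_iso (D.K.extendXIso ComplexShape.embeddingUpNat rfl)
  haveI : D.KZ.IsStrictlyGE 0 := (CochainComplex.isStrictlyGE_iff _ _).2 fun m hm =>
    D.K.isZero_extend_X ComplexShape.embeddingUpNat m (fun j hj => by simp at hj; omega)
  refine subsingleton_shift_of_terms (CohCx.freeSheaf _ (⊤ : X.Opens)) D.KZ n i (by omega) fun m q hm hmq => ?_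
  haveI := OmegaAffLib.isQCoh_omega f
  haveI : Subsingleton (Coh.HH X (D.term m) q) :=
    hcd _ (ExtPowLib.isQCoh_of_isExtPow (D.isExtPow m)) q (by omega)
  haveI : Subsingleton (CohSite.HU (Coh.toAb (D.term m)) q (⊤ : X.Opens)) :=
    @Equiv.subsingleton _ _ (CohBase.HEquiv (X := X.toTopCat) (Coh.toAb (D.term m)) q).toEquiv.symm
      (inferInstanceAs (Subsingleton (Coh.HH X (D.term m) q)))
  let e : D.KZ.X (m : ℤ) ≅ Coh.toAb (D.term m) :=
    D.K.extendXIso ComplexShape.embeddingUpNat rfl ≪≫ D.iso m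
  exact subsingleton_of_forall_eq 0 fun z => by
    rw [← Abelian.Ext.comp_mk₀_id z, ← Iso.hom_inv_id e, ← Abelian.Ext.mk₀_comp_mk₀,
      ← Abelian.Ext.comp_assoc z _ _ (add_zero _) (add_zero _) (by simp),
      Subsingleton.elim (α := CohSite.HU (Coh.toAb (D.term m)) q (⊤ : X.Opens))
        (z.comp (Abelian.Ext.mk₀ e.hom) (add_zero _)) 0,
      Abelian.Ext.zero_comp]

theorem subsingleton_HdR_two_dim [QuasiCompact f] {n : ℕ} (hn : topologicalKrullDim ↥X ≤ n) (D : DeRhamSh.OmegaCx f)
    [HasDerivedCategory.{w} (Sheaf (Opens.grothendieckTopology ↥X) AddCommGrpCat.{u})]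
    (q : ℤ) (hq : 2 * (n : ℤ) < q) : Subsingleton (DeRhamSh.HdR D q) := by
  haveI : IsLocallyNoetherian X := LocallyOfFiniteType.isLocallyNoetherian f
  haveI : CompactSpace ↥X := QuasiCompact.compactSpace_of_compactSpace f
  haveI : IsNoetherian X := {}
  haveI : NoetherianSpace ↑X.toTopCat := inferInstanceAs (NoetherianSpace ↥X)
  refine subsingleton_HdR_high f hn (n + 1) (fun F _ p hp => ?_) D q (by push_cast; omega)
  exact GrothVan.subsingleton_H_of_dim_le (X := X.toTopCat) hn _ (by omega)

end Groth.Agent.HdRLib
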